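import Groth.Agent.H14.Extend.GmAtlas
import Groth.Agent.Lib.AlgStack.SetoidalApps

/-!
Affine morphisms are Θ-reductive and S-complete.
-/

set_option autoImplicit false

universe u

open CategoryTheory AlgebraicGeometry

namespace Groth.Agent.H14.Extend

open Groth.Agent.Lib.AlgStack
open FibCat (IsFibGrpd)

variable {S : Scheme.{u}} {𝒳 𝒴 : AlgSt.Cat S} {f : 𝒳 ⥤ᵇ 𝒴}
  (h𝒳 : AlgSt.IsAlgStack Scheme.fppfPrecoverage 𝒳) (h𝒴 : AlgSt.IsAlgStack Scheme.fppfPrecoverage 𝒴)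
  (hf : AlgSt.RepByAlgSpWith (AlgSp.RepWith @IsAffineHom) f)

include h𝒳 h𝒴 hf

theorem isThetaReductive : ThetaS.IsThetaReductive Scheme.fppfPrecoverage f := fun R _ _ _ ϖ hϖ h sq =>
  haveI : f.toFunctor.Faithful :=
    (SetoidalApps.faithful_iff_repByAlgSp1 h𝒳 h𝒴 f).2 (Rep.repByAlgSp1_of_repByAlgSpWith hf)
  liftsUniquely (isFibGrpd_overS h _ Lib.QuotSt.isFibGrpd) h𝒳.isStack.1 h𝒴.isStack.1 hf
    (atlas_theta R h ϖ hϖ.ne_zero) sq

theorem isSComplete : ThetaS.IsSComplete Scheme.fppfPrecoverage f := fun R _ _ _ π hπ h sq =>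
  haveI : f.toFunctor.Faithful :=
    (SetoidalApps.faithful_iff_repByAlgSp1 h𝒳 h𝒴 f).2 (Rep.repByAlgSp1_of_repByAlgSpWith hf)
  liftsUniquely (isFibGrpd_overS h _ Lib.QuotSt.isFibGrpd) h𝒳.isStack.1 h𝒴.isStack.1 hf
    (atlas_st R h π hπ.ne_zero) sq

end Groth.Agent.H14.Extend
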