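import Groth.Agent.H14.Extend.Pair
import Groth.Agent.H14.Sep.Cover
import Groth.Prelude.Def_LiftSq

/-!
Unique lifting along the inclusion of a substack with an extension property on one atlas.
-/

set_option autoImplicit false
set_option backward.isDefEq.respectTransparency false
set_option backward.isDefEq.respectTransparency.types false

universe u

open CategoryTheory CategoryTheory.Limits AlgebraicGeometry

namespace Groth.Agent.H14.Extend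

open Groth.Agent.Lib.AlgStack
open Groth.Agent.H14.Sep (Cover.Fppf)
open FibCat (IsFibGrpd)
open AlgSt (fullSub subIncl RepByAlgSpWith)
open AlgSp (yon RepWith)

variable {S : Scheme.{u}} {𝒯 𝒳 𝒴 : AlgSt.Cat S} {f : 𝒳 ⥤ᵇ 𝒴}

/-- An atlas object on which affine sections extend from the substack. -/
structure Atlas (Q : 𝒯.obj → Prop) : Prop where
  of_hom : ∀ {τ' τ : 𝒯.obj}, (τ' ⟶ τ) → Q τ → Q τ'
  cov : ∃ (η : 𝒯.obj), (∀ τ : 𝒯.obj, ∃ (τ' : 𝒯.obj) (n : τ' ⟶ τ) (_ : τ' ⟶ η), Cover.Fppf (𝒯.p.map n)) ∧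
    (∃ (υ : 𝒯.obj) (n : υ ⟶ η), Q υ ∧ ExtendsAffine (𝒯.p.map n) ∧
      ∀ {τ' : 𝒯.obj} (k : τ' ⟶ η), Q τ' → ∃ l : τ' ⟶ υ, l ≫ n = k) ∧
    ∃ (ρ : 𝒯.obj) (p₁ p₂ : ρ ⟶ η), (∀ {τ' : 𝒯.obj} (k k' : τ' ⟶ η),
      ∃ m : τ' ⟶ ρ, m ≫ p₁ = k ∧ m ≫ p₂ = k') ∧
      ∃ (υ : 𝒯.obj) (n : υ ⟶ ρ), Q υ ∧ ExtendsAffine (𝒯.p.map n)

theorem locallySurjective {V' V : Over S} {c : V' ⟶ V} (h : Cover.Fppf c) :
    Sheaf.IsLocallySurjective ((yon S).map c) :=
  Lib.AlgSpace.isLocallySurjective_of_repWith ((AlgSp.repWith_yon_map_iff _ _).2 h.1)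
    ((AlgSp.repWith_yon_map_iff _ _).2 h.2.1) h.surj

theorem exists_square (h𝒯 : IsFibGrpd 𝒯.p) {τ₁ τ₂ τ : 𝒯.obj} (n₁ : τ₁ ⟶ τ) (n₂ : τ₂ ⟶ τ) :
    ∃ (τ₃ : 𝒯.obj) (a : τ₃ ⟶ τ₁) (b : τ₃ ⟶ τ₂), a ≫ n₁ = b ≫ n₂ ∧
      IsPullback (𝒯.p.map a) (𝒯.p.map b) (𝒯.p.map n₁) (𝒯.p.map n₂) ∧
      (Cover.Fppf (𝒯.p.map n₂) → Cover.Fppf (𝒯.p.map a)) := by
  let V := pullback (𝒯.p.map n₁) (𝒯.p.map n₂)
  let p₁ : V ⟶ 𝒯.p.obj τ₁ := pullback.fst _ _
  let p₂ : V ⟶ 𝒯.p.obj τ₂ := pullback.snd _ _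
  let τ₃ := Yoneda.pb h𝒯 (rfl : 𝒯.p.obj τ₁ = 𝒯.p.obj τ₁) p₁
  let a : τ₃ ⟶ τ₁ := Yoneda.pbMap h𝒯 rfl p₁
  have ha : 𝒯.p.IsHomLift p₁ a := inferInstance
  have hn₁ : 𝒯.p.IsHomLift (𝒯.p.map n₁) n₁ := IsHomLift.map 𝒯.p n₁
  have hn₂ : 𝒯.p.IsHomLift (𝒯.p.map n₂) n₂ := IsHomLift.map 𝒯.p n₂
  have := Yoneda.stronglyCartesian h𝒯 (𝒯.p.map n₂) n₂
  have hw : p₁ ≫ 𝒯.p.map n₁ = p₂ ≫ 𝒯.p.map n₂ := pullback.condition
  have han : 𝒯.p.IsHomLift (p₁ ≫ 𝒯.p.map n₁) (a ≫ n₁) := inferInstance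
  let b : τ₃ ⟶ τ₂ := Functor.IsStronglyCartesian.map 𝒯.p (𝒯.p.map n₂) n₂ hw (a ≫ n₁)
  have hb : 𝒯.p.IsHomLift p₂ b := Functor.IsStronglyCartesian.map_isHomLift _ _ _ _ _
  have e : 𝒯.p.obj τ₃ = V := IsHomLift.domain_eq 𝒯.p p₁ a
  have ea : 𝒯.p.map a = eqToHom e ≫ p₁ := by simpa using IsHomLift.fac' 𝒯.p p₁ a
  have eb : 𝒯.p.map b = eqToHom e ≫ p₂ := by simpa using IsHomLift.fac' 𝒯.p p₂ b
  have sq : IsPullback (𝒯.p.map a) (𝒯.p.map b) (𝒯.p.map n₁) (𝒯.p.map n₂) :=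
    (IsPullback.of_hasPullback (𝒯.p.map n₁) (𝒯.p.map n₂)).of_iso (eqToIso e.symm) (Iso.refl _)
      (Iso.refl _) (Iso.refl _) (by simp [ea, p₁]) (by simp [eb, p₂]) (by simp) (by simp)
  refine ⟨τ₃, a, b, (Functor.IsStronglyCartesian.fac 𝒯.p (𝒯.p.map n₂) n₂ hw (a ≫ n₁)).symm, sq,
    fun h => ?_⟩
  have sqF := sq.map (Over.forget S)
  exact ⟨MorphismProperty.of_isPullback (P := @Flat) sqF.flip h.1,
    MorphismProperty.of_isPullback (P := @LocallyOfFinitePresentation) sqF.flip h.2.1,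
    MorphismProperty.of_isPullback (P := @Surjective) sqF.flip h.2.2⟩

section

variable (h𝒯 : IsFibGrpd 𝒯.p) (h𝒳 : IsFibGrpd 𝒳.p) (h𝒴 : IsFibGrpd 𝒴.p)
  (hf : RepByAlgSpWith (RepWith @IsAffineHom) f) {Q : 𝒯.obj → Prop} (hA : Atlas Q)
  (sq : LiftSq.Sq (subIncl 𝒯 Q) f)

/-- The given lift on the substack. -/
def given (v : (fullSub 𝒯 Q).obj) : Pair f sq.bot v.obj :=
  ⟨sq.top.obj v, (BasedBasic.appIso sq.iso v).hom, BasedBasic.appIso_isHomLift sq.iso v⟩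

theorem pull_given {v v' : (fullSub 𝒯 Q).obj} (φ : v ⟶ v') :
    Pull φ.hom (given sq v) (given sq v') :=
  ⟨sq.top.map φ, by
    have : (fullSub 𝒯 Q).p.IsHomLift (𝒯.p.map φ.hom) φ := IsHomLift.map (fullSub 𝒯 Q).p φ
    exact BasedFunctor.preserves_isHomLift sq.top _ _, (sq.iso.hom.toNatTrans.naturality φ).symm⟩

theorem pull_given' {τ' τ : 𝒯.obj} (φ : τ' ⟶ τ) (h' : Q τ') (h : Q τ) :
    Pull φ (given sq ⟨τ', h'⟩) (given sq ⟨τ, h⟩) :=
  pull_given sq (v := ⟨τ', h'⟩) (v' := ⟨τ, h⟩) (ObjectProperty.homMk φ)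

include h𝒯 h𝒳 h𝒴 hf hA

/-- There are good lifts at every object, natural and extending the given ones. -/
theorem exists_good :
    ∃ Good : ∀ τ : 𝒯.obj, Pair f sq.bot τ → Prop,
      (∀ τ, ∃ P, Good τ P) ∧ (∀ (τ) (P P' : Pair f sq.bot τ), Good τ P → Good τ P' → Pull (𝟙 τ) P P') ∧
      (∀ {τ' τ} (φ : τ' ⟶ τ) (R P), Pull φ R P → Good τ P → Good τ' R) ∧
      (∀ v : (fullSub 𝒯 Q).obj, Good v.obj (given sq v)) ∧
      ∀ D : ∀ τ : 𝒯.obj, Pair f sq.bot τ, (∀ {τ' τ} (φ : τ' ⟶ τ), Pull φ (D τ') (D τ)) →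
        (∀ v : (fullSub 𝒯 Q).obj, Pull (𝟙 v.obj) (D v.obj) (given sq v)) → ∀ τ, Good τ (D τ) := by
  have hf₁ := Rep.repByAlgSp1_of_repByAlgSpWith hf
  obtain ⟨η, hcov, ⟨υη, nη, hυη, hextη, hfac⟩, ρ, p₁, p₂, hrel, υρ, nρ, hυρ, hextρ⟩ := hA.cov
  obtain ⟨⟨P₀, hP₀⟩, huη⟩ := extend h𝒳 h𝒴 hf nη hextη (given sq ⟨υη, hυη⟩)
  have hQP₀ : ∀ {τ'} (k : τ' ⟶ η) (h : Q τ'), Pull k (given sq ⟨τ', h⟩) P₀ := fun k h => by
    obtain ⟨l, hl⟩ := hfac k h
    exact pull_congr hl (pull_comp (pull_given' sq l h hυη) hP₀)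
  have hρ : ∀ (i : ρ ⟶ η) (R : Pair f sq.bot ρ), Pull i R P₀ → Pull nρ (given sq ⟨υρ, hυρ⟩) R :=
    fun i R h => by
      obtain ⟨R', hR'⟩ := exists_pull h𝒳 h𝒴 nρ R
      exact pull_left (pull_unique h𝒳 h𝒴 (hQP₀ (nρ ≫ i) hυρ) (pull_comp hR' h)) hR'
  have hind : ∀ {τ'} (k k' : τ' ⟶ η) (R R' : Pair f sq.bot τ'),
      Pull k R P₀ → Pull k' R' P₀ → Pull (𝟙 τ') R R' := fun {τ'} k k' R R' h h' => by
    obtain ⟨m, hm₁, hm₂⟩ := hrel k k'
    obtain ⟨A₁, hA₁⟩ := exists_pull h𝒳 h𝒴 p₁ P₀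
    obtain ⟨A₂, hA₂⟩ := exists_pull h𝒳 h𝒴 p₂ P₀
    have hA := (extend h𝒳 h𝒴 hf nρ hextρ _).2 A₁ A₂ (hρ p₁ A₁ hA₁) (hρ p₂ A₂ hA₂)
    obtain ⟨B, hB⟩ := exists_pull h𝒳 h𝒴 m A₁
    have h1 := pull_congr hm₁ (pull_comp hB hA₁)
    have h2 := pull_congr hm₂ (pull_comp (pull_right hB hA) hA₂)
    exact pull_congr (Category.id_comp _)
      (pull_comp (pull_unique h𝒳 h𝒴 h h1) (pull_unique h𝒳 h𝒴 h2 h'))
  let Good : ∀ τ : 𝒯.obj, Pair f sq.bot τ → Prop := fun τ P =>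
    ∀ (τ' : 𝒯.obj) (n : τ' ⟶ τ) (k : τ' ⟶ η) (R : Pair f sq.bot τ'), Pull n R P → Pull k R P₀
  have hgiven : ∀ v : (fullSub 𝒯 Q).obj, Good v.obj (given sq v) := fun v τ' n k R hR =>
    pull_left (pull_unique h𝒳 h𝒴 hR (pull_given' sq n (hA.of_hom n v.property) v.property))
      (hQP₀ k _)
  refine ⟨Good, fun τ => ?_, fun τ P P' hP hP' => ?_, ?_, hgiven, fun D hD hDv τ => ?_⟩
  · obtain ⟨τ', n, k, hn⟩ := hcov τ
    have := locallySurjective hn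
    obtain ⟨R, hR⟩ := exists_pull h𝒳 h𝒴 k P₀
    obtain ⟨τ₃, a, b, hab, hpb, -⟩ := exists_square h𝒯 n n
    obtain ⟨Ra, hRa⟩ := exists_pull h𝒳 h𝒴 a R
    obtain ⟨Rb, hRb⟩ := exists_pull h𝒳 h𝒴 b R
    have hab' := hind _ _ Ra Rb (pull_comp hRa hR) (pull_comp hRb hR)
    obtain ⟨P, hP⟩ := pull_descend h𝒳 h𝒴 hf₁ n hpb hab hRa (pull_left hab' hRb)
    refine ⟨P, fun τ₁ n₁ k₁ R₁ hR₁ => ?_⟩
    obtain ⟨τ₄, c, d, hcd, -, hcf⟩ := exists_square h𝒯 n₁ n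
    have := locallySurjective (hcf hn)
    obtain ⟨R₁', hR₁'⟩ := exists_pull h𝒳 h𝒴 k₁ P₀
    obtain ⟨A, hA⟩ := exists_pull h𝒳 h𝒴 c R₁
    obtain ⟨A', hA'⟩ := exists_pull h𝒳 h𝒴 c R₁'
    obtain ⟨B, hB⟩ := exists_pull h𝒳 h𝒴 d R
    have e1 := pull_unique h𝒳 h𝒴 (pull_congr hcd (pull_comp hA hR₁)) (pull_comp hB hP)
    have e2 := hind _ _ B A' (pull_comp hB hR) (pull_comp hA' hR₁')
    have e3 : Pull c A R₁' := pull_left (pull_congr (Category.id_comp _) (pull_comp e1 e2)) hA'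
    exact pull_left (pull_cancel h𝒳 h𝒴 hf₁ c hA e3) hR₁'
  · obtain ⟨τ', n, k, hn⟩ := hcov τ
    have := locallySurjective hn
    obtain ⟨R, hR⟩ := exists_pull h𝒳 h𝒴 n P
    obtain ⟨R', hR'⟩ := exists_pull h𝒳 h𝒴 n P'
    exact pull_cancel h𝒳 h𝒴 hf₁ n hR
      (pull_left (hind k k R R' (hP τ' n k R hR) (hP' τ' n k R' hR')) hR')
  · exact fun φ R P h hP τ₁ n k R₁ hR₁ => hP τ₁ (n ≫ φ) k R₁ (pull_comp hR₁ h)
  · intro τ' n k R hR
    have h0 : Pull (𝟙 η) (D η) P₀ := huη _ _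
      (pull_left (pull_symm h𝒳 h𝒴 (hDv ⟨υη, hυη⟩)) (hD nη)) hP₀
    exact pull_left (pull_unique h𝒳 h𝒴 hR (hD n)) (pull_right (hD k) h0)

/-- Squares against the inclusion fill uniquely. -/
theorem liftsUniquely [f.toFunctor.Faithful] : sq.UniquelyFills := by
  obtain ⟨Good, hex, huniq, hpull, hgiven, hfam⟩ := exists_good h𝒯 h𝒳 h𝒴 hf hA sq
  choose P hP using hex
  have hnat : ∀ {τ' τ : 𝒯.obj} (φ : τ' ⟶ τ), Pull φ (P τ') (P τ) := fun {τ' τ} φ => by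
    obtain ⟨R, hR⟩ := exists_pull h𝒳 h𝒴 φ (P τ)
    exact pull_left (huniq τ' _ _ (hP τ') (hpull φ R _ hR (hP τ))) hR
  have hiso : ∀ {τ : 𝒯.obj} (A : Pair f sq.bot τ), IsIso A.i := fun {τ} A =>
    haveI := A.lift; BasedBasic.isIso_of_isHomLift_id h𝒴 (R := 𝒯.p.obj τ) A.i
  constructor
  · choose m hm hme using @hnat
    let fn : 𝒯 ⥤ᵇ 𝒳 :=
      { toFunctor :=
          { obj := fun τ => (P τ).x
            map := fun φ => m φ
            map_id := fun τ => f.toFunctor.map_injective (by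
              have := hiso (P τ)
              rw [← cancel_epi (P τ).i, hme, sq.bot.toFunctor.map_id, f.toFunctor.map_id,
                Category.id_comp, Category.comp_id])
            map_comp := fun {a b c} φ ψ => f.toFunctor.map_injective (by
              have := hiso (P a)
              rw [← cancel_epi (P a).i, hme, f.toFunctor.map_comp, reassoc_of% (hme φ), hme,
                sq.bot.toFunctor.map_comp, Category.assoc]) }
        w := CategoryTheory.Functor.ext (fun τ => (P τ).p_x) (fun a b φ => by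
          have := hm φ
          simpa using IsHomLift.fac' 𝒳.p (𝒯.p.map φ) (m φ)) }
    choose t ht hte using fun v : (fullSub 𝒯 Q).obj => huniq v.obj _ _ (hP v.obj) (hgiven v)
    have ht' : ∀ v : (fullSub 𝒯 Q).obj, 𝒳.p.IsHomLift (𝟙 (𝒯.p.obj v.obj)) (t v) := fun v => by
      have := ht v
      rwa [𝒯.p.map_id] at this
    have hte' : ∀ v : (fullSub 𝒯 Q).obj,
        (P v.obj).i ≫ f.map (t v) = (BasedBasic.appIso sq.iso v).hom := fun v => by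
      rw [hte, sq.bot.toFunctor.map_id, Category.id_comp]; rfl
    have hti : ∀ v, IsIso (t v) := fun v =>
      haveI := ht' v; BasedBasic.isIso_of_isHomLift_id h𝒳 (R := 𝒯.p.obj v.obj) (t v)
    refine ⟨⟨fn, BasedNatIso.mkNatIso (NatIso.ofComponents (fun v => asIso (t v)) ?_) (fun v => ht' v),
      BasedNatIso.mkNatIso (NatIso.ofComponents (fun τ => @asIso _ _ _ _ (P τ).i (hiso _)) ?_)
        (fun τ => (P τ).lift), ?_⟩⟩
    · intro v v' φ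
      apply f.toFunctor.map_injective
      change f.map (m φ.hom ≫ t v') = f.map (t v ≫ sq.top.map φ)
      have := hiso (P v.obj)
      have hn : sq.bot.map φ.hom ≫ (BasedBasic.appIso sq.iso v').hom =
          (BasedBasic.appIso sq.iso v).hom ≫ f.map (sq.top.map φ) := sq.iso.hom.toNatTrans.naturality φ
      rw [f.toFunctor.map_comp, f.toFunctor.map_comp, ← cancel_epi (P v.obj).i,
        reassoc_of% (hme φ.hom), hte', reassoc_of% (hte' v), hn]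
    · intro a b φ
      exact (hme φ).symm
    · apply BasedNatTrans.homCategory.ext
      ext v
      exact hte' v
  · intro d d'
    let D : sq.Lift → ∀ τ : 𝒯.obj, Pair f sq.bot τ := fun d τ =>
      ⟨d.fn.obj τ, (BasedBasic.appIso d.isoBot τ).hom, BasedBasic.appIso_isHomLift d.isoBot τ⟩
    have hD : ∀ (d : sq.Lift) (τ : 𝒯.obj), Good τ (D d τ) := fun d => hfam (D d)
      (fun {τ' τ} φ => ⟨d.fn.map φ,
        (have := IsHomLift.map 𝒯.p φ; BasedFunctor.preserves_isHomLift d.fn _ _),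
        (d.isoBot.hom.toNatTrans.naturality φ).symm⟩)
      (fun v => ⟨(BasedBasic.appIso d.isoTop v).hom, by
          rw [𝒯.p.map_id]; exact BasedBasic.appIso_isHomLift d.isoTop v, by
        rw [sq.bot.toFunctor.map_id, Category.id_comp]
        exact congrArg (fun x => x.toNatTrans.app v) d.w⟩)
    choose t ht hte using fun τ => huniq τ _ _ (hD d τ) (hD d' τ)
    have ht' : ∀ τ : 𝒯.obj, 𝒳.p.IsHomLift (𝟙 (𝒯.p.obj τ)) (t τ) := fun τ => by
      have := ht τ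
      rwa [𝒯.p.map_id] at this
    have hte' : ∀ τ, (BasedBasic.appIso d.isoBot τ).hom ≫ f.map (t τ) =
        (BasedBasic.appIso d'.isoBot τ).hom := fun τ => by
      refine (hte τ).trans ?_
      rw [sq.bot.toFunctor.map_id, Category.id_comp]
    let θ : d.fn ⟶ d'.fn :=
      { toNatTrans :=
          { app := t
            naturality := fun a b φ => f.toFunctor.map_injective (by
              rw [f.toFunctor.map_comp, f.toFunctor.map_comp,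
                ← cancel_epi (BasedBasic.appIso d.isoBot a).hom, reassoc_of% (hte' a)]
              rw [← Category.assoc]
              have n1 : sq.bot.map φ ≫ (BasedBasic.appIso d.isoBot b).hom =
                  (BasedBasic.appIso d.isoBot a).hom ≫ f.map (d.fn.map φ) :=
                d.isoBot.hom.toNatTrans.naturality φ
              have n2 : sq.bot.map φ ≫ (BasedBasic.appIso d'.isoBot b).hom =
                  (BasedBasic.appIso d'.isoBot a).hom ≫ f.map (d'.fn.map φ) :=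
                d'.isoBot.hom.toNatTrans.naturality φ
              rw [← n1, Category.assoc, hte', n2]) }
        isHomLift' := fun τ => ht' τ }
    refine ⟨⟨⟨⟨θ, ?_, ?_⟩⟩, fun φ => ?_⟩⟩
    · apply BasedNatTrans.homCategory.ext
      ext v
      apply f.toFunctor.map_injective
      change f.map (t v.obj ≫ (BasedBasic.appIso d'.isoTop v).hom) = f.map (BasedBasic.appIso d.isoTop v).hom
      have e : (BasedBasic.appIso d.isoBot v.obj).hom ≫ f.map (BasedBasic.appIso d.isoTop v).hom =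
          (BasedBasic.appIso sq.iso v).hom := congrArg (fun x => x.toNatTrans.app v) d.w
      have e' : (BasedBasic.appIso d'.isoBot v.obj).hom ≫ f.map (BasedBasic.appIso d'.isoTop v).hom =
          (BasedBasic.appIso sq.iso v).hom := congrArg (fun x => x.toNatTrans.app v) d'.w
      rw [← cancel_epi (BasedBasic.appIso d.isoBot v.obj).hom, f.toFunctor.map_comp,
        reassoc_of% (hte' v.obj), e, e']
    · apply BasedNatTrans.homCategory.ext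
      ext τ
      exact hte' τ
    · apply LiftSq.Sq.Lift.hom_ext
      apply BasedNatTrans.homCategory.ext
      ext τ
      apply f.toFunctor.map_injective
      rw [← cancel_epi (BasedBasic.appIso d.isoBot τ).hom]
      exact (congrArg (fun x => x.toNatTrans.app τ) φ.w_bot).trans (hte' τ).symm

end

end Groth.Agent.H14.Extend
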