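import Groth.Agent.H14.Extend.QuotAtlas
import Mathlib.RingTheory.FinitePresentation
import Mathlib.RingTheory.FiniteType
import Mathlib.Algebra.MvPolynomial.Division

/-!
The atlases of the test stacks of Θ-reductivity and S-completeness.
-/

set_option autoImplicit false
set_option backward.isDefEq.respectTransparency false
set_option backward.isDefEq.respectTransparency.types false

noncomputable section

universe u

open CategoryTheory CategoryTheory.Limits MonoidalCategory CartesianMonoidalCategory MonObj GrpObj AlgebraicGeometry Opposite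
open scoped TensorProduct

namespace Groth.Agent.H14.Extend

/-- The braided structure of `Spec`, at the spelling `CommRingCat.of R`. -/
local instance (R : Type u) [CommRing R] : (algSpec (CommRingCat.of R)).Braided := braidedAlgSpec

open ThetaS (Lau Gm zPow)
open CoactBr (sp pt)

variable {R : Type u} [CommRing R]

theorem isUnit_zPow (n : ℤ) : IsUnit (zPow R n) :=
  IsUnit.of_mul_eq_one (zPow R (-n)) (by rw [ThetaS.zPow_mul, add_neg_cancel, ThetaS.zPow_zero])

theorem flat_Gm : Flat (Gm R).hom := by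
  change Flat (Spec.map (CommRingCat.ofHom (algebraMap R (MonoidAlgebra R (Multiplicative ℤ)))))
  exact (HasRingHomProperty.Spec_iff (P := @Flat)).2 (RingHom.flat_algebraMap_iff.2 inferInstance)

theorem lfp_Gm [IsNoetherianRing R] : LocallyOfFinitePresentation (Gm R).hom := by
  change LocallyOfFinitePresentation (Spec.map (CommRingCat.ofHom (algebraMap R (MonoidAlgebra R (Multiplicative ℤ)))))
  exact (HasRingHomProperty.Spec_iff (P := @LocallyOfFinitePresentation)).2
    (RingHom.finitePresentation_algebraMap.2 (Algebra.FinitePresentation.of_finiteType.1 inferInstance))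

variable {A : Type u} [CommRing A] [Algebra R A]

variable (R A) in
/-- The product of the group with an affine scheme is affine. -/
def prodPt : sp R (A ⊗[R] Lau R) ⟶ Gm R ⊗ sp R A :=
  lift (pt Algebra.TensorProduct.includeRight) (pt Algebra.TensorProduct.includeLeft)

instance isIso_prodPt : IsIso (prodPt R A) := by
  let l : sp R (A ⊗[R] Lau R) ⟶ sp R A ⊗ Gm R :=
    lift (pt Algebra.TensorProduct.includeLeft) (pt Algebra.TensorProduct.includeRight)
  let m := Functor.LaxMonoidal.μ (algSpec (CommRingCat.of R)) (op (.of R A)) (op (.of R (Lau R)))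
  have h : l ≫ m = 𝟙 _ := by
    refine (CoactBr.lift_pt_pt _ _).trans ?_
    rw [show Algebra.TensorProduct.lift (Algebra.TensorProduct.includeLeft (R := R) (S := R) (A := A) (B := Lau R))
      Algebra.TensorProduct.includeRight (fun _ _ => .all _ _) = AlgHom.id R _ from
        Algebra.TensorProduct.ext' fun a b => by simp, CoactBr.pt_id]
  have hm : IsIso m := inferInstance
  have hl : IsIso l := by
    rw [show l = inv m from IsIso.eq_inv_of_inv_hom_id h |>.symm ▸ rfl]
    infer_instance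
  have e : prodPt R A = l ≫ (β_ _ _).hom := (lift_braiding_hom _ _).symm
  rw [e]
  infer_instance

/-- The function of a ring element. -/
abbrev fn (a : A) : Γ((sp R A).left, ⊤) := (Scheme.ΓSpecIso (CommRingCat.of A)).inv a

theorem appTop_pt {B : Type u} [CommRing B] [Algebra R B] (φ : A →ₐ[R] B) (a : A) :
    (pt φ).left.appTop (fn a) = fn (φ a) := by
  rw [CoactBr.pt_left]
  exact (ConcreteCategory.congr_hom (Scheme.ΓSpecIso_inv_naturality (CommRingCat.ofHom φ.toRingHom)) a).symm

/-- The invariant open of two semi-invariant functions. -/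
abbrev open₂ (a b : A) : (sp R A).left.Opens :=
  (sp R A).left.basicOpen (fn a) ⊔ (sp R A).left.basicOpen (fn b)

/-- Two semi-invariant functions forming a regular pair give an atlas with extension. -/
theorem atlas_Gm [IsNoetherianRing R] {S : Scheme.{u}} (h : Spec (CommRingCat.of R) ⟶ S)
    (aX : AlgGrp.Action (Gm R) (sp R A)) (φ : A →ₐ[R] A ⊗[R] Lau R) (hφ : prodPt R A ≫ aX.act = pt φ)
    {a b : A} (hreg : RegPair a b) {ua ub : A ⊗[R] Lau R} (hua : IsUnit ua) (hub : IsUnit ub)
    (ha : φ a = ua * a ⊗ₜ[R] 1) (hb : φ b = ub * b ⊗ₜ[R] 1) :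
    Atlas (𝒯 := ThetaS.overS h (AlgSt.QuotSt Scheme.fppfPrecoverage (Gm R) aX)) (Lands (open₂ a b)) := by
  have := flat_Gm (R := R)
  have := lfp_Gm (R := R)
  have : IsIso (prodPt R A).left := inferInstanceAs (IsIso ((Over.forget _).map (prodPt R A)))
  have : IsAffine (sp R A).left := inferInstanceAs (IsAffine (Spec _))
  have : IsAffine (sp R (A ⊗[R] Lau R)).left := inferInstanceAs (IsAffine (Spec _))
  have : IsAffine (Gm R ⊗ sp R A).left := IsAffine.of_isIso (inv (prodPt R A).left)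
  have hsnd : prodPt R A ≫ snd _ _ = pt Algebra.TensorProduct.includeLeft := lift_snd _ _
  have hbu : ∀ {u : A ⊗[R] Lau R} (x : A ⊗[R] Lau R), IsUnit u →
      (sp R (A ⊗[R] Lau R)).left.basicOpen (fn (u * x)) = (sp R (A ⊗[R] Lau R)).left.basicOpen (fn x) := by
    intro u x hu
    have hu' : IsUnit (fn (R := R) u) := hu.map _
    rw [fn, map_mul, Scheme.basicOpen_mul, Scheme.basicOpen_of_isUnit _ hu', top_inf_eq]
  have key : ∀ (c : Gm R ⊗ sp R A ⟶ sp R A) (ψ : A →ₐ[R] A ⊗[R] Lau R), prodPt R A ≫ c = pt ψ →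
      ∀ x : A, (prodPt R A).left ⁻¹ᵁ (c.left ⁻¹ᵁ (sp R A).left.basicOpen (fn x)) =
        (sp R (A ⊗[R] Lau R)).left.basicOpen (fn (ψ x)) := fun c ψ hc x => by
    rw [← Scheme.Hom.comp_preimage, ← Over.comp_left, hc, Scheme.preimage_basicOpen_top, appTop_pt]
  have hU : aX.act.left ⁻¹ᵁ open₂ a b = (snd (Gm R) (sp R A)).left ⁻¹ᵁ open₂ a b := by
    have inj : ∀ V W : (Gm R ⊗ sp R A).left.Opens,
        (prodPt R A).left ⁻¹ᵁ V = (prodPt R A).left ⁻¹ᵁ W → V = W := fun V W e =>
      TopologicalSpace.Opens.ext (Set.preimage_injective.2 (prodPt R A).left.surjective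
        (congrArg SetLike.coe e))
    refine inj _ _ ?_
    simp only [open₂, Scheme.Hom.preimage_sup]
    rw [key _ _ hφ, key _ _ hφ, key _ _ hsnd, key _ _ hsnd, ha, hb, hbu _ hua, hbu _ hub]
    rfl
  let e : Γ((Gm R ⊗ sp R A).left, ⊤) ≃+* A ⊗[R] Lau R :=
    ((asIso (prodPt R A).left.appTop) ≪≫ Scheme.ΓSpecIso (CommRingCat.of (A ⊗[R] Lau R))).commRingCatIsoToRingEquiv
  have he : ∀ x : A, (snd (Gm R) (sp R A)).left.appTop (fn x) = e.symm (x ⊗ₜ[R] 1) := fun x => by
    apply e.injective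
    rw [RingEquiv.apply_symm_apply]
    change (Scheme.ΓSpecIso _).hom ((prodPt R A).left.appTop ((snd (Gm R) (sp R A)).left.appTop (fn x))) = _
    rw [← CommRingCat.comp_apply (snd (Gm R) (sp R A)).left.appTop, ← Scheme.Hom.comp_appTop,
      ← Over.comp_left, hsnd, appTop_pt]
    exact Iso.inv_hom_id_apply _ _
  refine atlas h (open₂ a b) hU
    (bijective_ι_appTop (hreg.map_ringEquiv (Scheme.ΓSpecIso (CommRingCat.of A)).symm.commRingCatIsoToRingEquiv) rfl) ?_
  refine bijective_ι_appTop ((hreg.tensor (R := R) (Lau R)).map_ringEquiv e.symm) ?_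
  rw [← he, ← he, ← Scheme.preimage_basicOpen_top, ← Scheme.preimage_basicOpen_top, ← Scheme.Hom.preimage_sup]

variable (R) [IsDomain R] [IsNoetherianRing R] {S : Scheme.{u}} (h : Spec (CommRingCat.of R) ⟶ S)

open Polynomial in
/-- The atlas of the quotient of the line. -/
theorem atlas_theta (ϖ : R) (hϖ : ϖ ≠ 0) :
    Atlas (𝒯 := ThetaS.Theta Scheme.fppfPrecoverage R h) (ThetaS.MissesOrigin ϖ) := by
  have hreg : RegPair (X : R[X]) (C ϖ) := by
    refine ⟨fun x hx => ?_, fun x hx => ?_, fun x hx => ?_⟩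
    · exact (mul_eq_zero.1 hx).resolve_left X_ne_zero
    · exact (mul_eq_zero.1 hx).resolve_left (C_ne_zero.2 hϖ)
    · refine (prime_X.dvd_or_dvd hx).resolve_left fun hd => hϖ ?_
      simpa using X_dvd_iff.1 hd
  let φ : R[X] →ₐ[R] R[X] ⊗[R] Lau R := ThetaS.linePt ((1 : R[X]) ⊗ₜ[R] zPow R 1 * (X : R[X]) ⊗ₜ[R] (1 : Lau R))
  have hφ : prodPt R R[X] ≫ (ThetaS.lineAction R).act = pt φ := by
    have e : (Algebra.TensorProduct.includeLeft : R[X] →ₐ[R] R[X] ⊗[R] Lau R) =
        ThetaS.linePt ((X : R[X]) ⊗ₜ[R] (1 : Lau R)) := Polynomial.algHom_ext (by simp)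
    rw [prodPt, e]
    exact ThetaS.lineAction_pt _ _
  have hz : IsUnit ((1 : R[X]) ⊗ₜ[R] zPow R 1) :=
    (isUnit_zPow 1).map (Algebra.TensorProduct.includeRight : Lau R →ₐ[R] R[X] ⊗[R] Lau R)
  have h0 := atlas_Gm h (ThetaS.lineAction R) φ hφ hreg hz isUnit_one (Polynomial.aeval_X _)
    (by rw [_root_.one_mul]; exact (φ.commutes ϖ).trans rfl)
  have e : Lands (open₂ (X : R[X]) (C ϖ)) = ThetaS.MissesOrigin (K := Scheme.fppfPrecoverage) ϖ := by
    funext T
    unfold Lands ThetaS.MissesOrigin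
    rw [Scheme.Hom.preimage_sup, Scheme.preimage_basicOpen_top, Scheme.preimage_basicOpen_top]
  rw [← e]
  exact h0

open MvPolynomial ThetaS in
theorem regPair_st (π : R) (hπ : π ≠ 0) : RegPair (sFn R π) (tFn R π) := by
  have hX : ∀ i : Fin 2, ∀ q : MvPolynomial (Fin 2) R, X i ∣ (X 0 * X 1 - C π) * q → X i ∣ q := by
    intro i q hq
    refine ((X_prime (i := i)).dvd_or_dvd hq).resolve_left fun hd => hπ ?_
    obtain ⟨c, hc⟩ := hd
    simpa using congrArg (MvPolynomial.eval (fun _ => (0 : R))) hc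
  have hI : ∀ x : MvPolynomial (Fin 2) R, Ideal.Quotient.mk (Ideal.span {X 0 * X 1 - C π}) x = 0 ↔
      ∃ q, x = (X 0 * X 1 - C π) * q := fun x => by
    rw [Ideal.Quotient.eq_zero_iff_mem, Ideal.mem_span_singleton, dvd_def]
  have hnzd : ∀ i : Fin 2, ∀ x : STRing R π, Ideal.Quotient.mk _ (X i) * x = 0 → x = 0 := by
    intro i x hx
    obtain ⟨x, rfl⟩ := Ideal.Quotient.mk_surjective x
    rw [← map_mul] at hx
    obtain ⟨q, hq⟩ := (hI _).1 hx
    obtain ⟨q', rfl⟩ := hX i q ⟨x, hq.symm⟩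
    exact (hI _).2 ⟨q', mul_left_cancel₀ (X_ne_zero i) (hq.trans (by ring))⟩
  refine ⟨hnzd 0, hnzd 1, fun x hx => ?_⟩
  obtain ⟨x, rfl⟩ := Ideal.Quotient.mk_surjective x
  obtain ⟨y, hy⟩ := hx
  obtain ⟨y, rfl⟩ := Ideal.Quotient.mk_surjective y
  simp only [← map_mul] at hy
  obtain ⟨q, hq⟩ := (hI _).1 (show Ideal.Quotient.mk _ (X 1 * x - X 0 * y) = 0 by rw [map_sub, hy, sub_self])
  let g : MvPolynomial (Fin 2) R →ₐ[R] MvPolynomial (Fin 2) R := aeval ![0, X 1]
  have hg : ∀ p : MvPolynomial (Fin 2) R, X 0 ∣ p - g p := by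
    intro p
    induction p using MvPolynomial.induction_on with
    | C r => simp [g]
    | add p q hp hq =>
      rw [map_add, show p + q - (g p + g q) = (p - g p) + (q - g q) by ring]
      exact dvd_add hp hq
    | mul_X p i hp =>
      rw [map_mul, show p * X i - g p * g (X i) = (p - g p) * X i + g p * (X i - g (X i)) by ring]
      refine dvd_add (hp.mul_right _) (Dvd.dvd.mul_left ?_ _)
      fin_cases i <;> simp [g]
  have h1 : X 1 * g x = -C π * g q := by
    have := congrArg g hq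
    simpa [g] using this
  have h2 : X 1 ∣ g q := by
    refine ((X_prime (i := (1 : Fin 2))).dvd_or_dvd (Dvd.intro _ h1)).resolve_left fun hd => hπ ?_
    obtain ⟨c, hc⟩ := hd
    simpa using congrArg (MvPolynomial.eval (fun _ => (0 : R))) hc
  obtain ⟨q', hq'⟩ := h2
  obtain ⟨c, hc⟩ := hg x
  have h3 : g x = -C π * q' := mul_left_cancel₀ (X_ne_zero (1 : Fin 2)) (by rw [h1, hq']; ring)
  refine ⟨Ideal.Quotient.mk _ (c - X 1 * q'), ?_⟩
  rw [← map_mul, ← sub_eq_zero, ← map_sub]
  refine (hI _).2 ⟨q', ?_⟩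
  rw [sub_eq_iff_eq_add.1 hc, h3]
  ring

open ThetaS in
/-- The atlas of the quotient of the two-branched curve. -/
theorem atlas_st (π : R) (hπ : π ≠ 0) :
    Atlas (𝒯 := ThetaS.ST Scheme.fppfPrecoverage R π h) (ThetaS.MissesNode) := by
  letI : CommRing (STRing R π ⊗[R] Lau R) := Algebra.TensorProduct.instCommRing
  have hab : (sFn R π ⊗ₜ[R] (1 : Lau R) : STRing R π ⊗[R] Lau R) * (tFn R π ⊗ₜ[R] (1 : Lau R) : STRing R π ⊗[R] Lau R) =
      algebraMap R (STRing R π ⊗[R] Lau R) π := by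
    rw [Algebra.TensorProduct.tmul_mul_tmul, _root_.one_mul, sFn_mul_tFn, Algebra.TensorProduct.algebraMap_apply]
  let lam : Lau R →ₐ[R] STRing R π ⊗[R] Lau R := Algebra.TensorProduct.includeRight
  have hpt := stAction_pt lam _ _ hab
  have e : (Algebra.TensorProduct.includeLeft : STRing R π →ₐ[R] STRing R π ⊗[R] Lau R) = stPt _ _ hab :=
    stRing_algHom_ext (by simp) (by simp)
  have hφ := hpt
  rw [← e] at hφ
  have h0 := atlas_Gm h (stAction R π) _ hφ (regPair_st R π hπ) ((isUnit_zPow 1).map lam) ((isUnit_zPow (-1)).map lam)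
    (stPt_sFn _ _ _) (stPt_tFn _ _ _)
  have e' : Lands (open₂ (sFn R π) (tFn R π)) = ThetaS.MissesNode (K := Scheme.fppfPrecoverage) := by
    funext T
    unfold Lands ThetaS.MissesNode
    rw [Scheme.Hom.preimage_sup, Scheme.preimage_basicOpen_top, Scheme.preimage_basicOpen_top]
  rw [← e']
  exact h0

end Groth.Agent.H14.Extend
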