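import Groth.Agent.H14.IsoNat.Dict

/-!
Lifts of the objects of a category over the base along a representable functor, with descent and extension.
-/

set_option autoImplicit false
set_option backward.isDefEq.respectTransparency false
set_option backward.isDefEq.respectTransparency.types false

universe u

open CategoryTheory CategoryTheory.Limits AlgebraicGeometry

namespace Groth.Agent.H14.Extend

open Groth.Agent.Lib.AlgStack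
open Groth.Agent.H14.IsoNat
open FibCat (IsEquivOver fp fpFst overCat IsFibGrpd)
open AlgSt (ofSp spMapOfOver RepByAlgSpWith)
open AlgSp (Sp yon RepWith)

variable {S : Scheme.{u}} {𝒯 𝒳 𝒴 : AlgSt.Cat S}

/-- A lift of the image of an object. -/
structure Pair (f : 𝒳 ⥤ᵇ 𝒴) (bot : 𝒯 ⥤ᵇ 𝒴) (τ : 𝒯.obj) where
  x : 𝒳.obj
  i : bot.obj τ ⟶ f.obj x
  lift : 𝒴.p.IsHomLift (𝟙 (𝒯.p.obj τ)) i

variable {f : 𝒳 ⥤ᵇ 𝒴} {bot : 𝒯 ⥤ᵇ 𝒴}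

/-- One lift is the pullback of another. -/
def Pull {τ' τ : 𝒯.obj} (φ : τ' ⟶ τ) (Q : Pair f bot τ') (P : Pair f bot τ) : Prop :=
  ∃ m : Q.x ⟶ P.x, 𝒳.p.IsHomLift (𝒯.p.map φ) m ∧ Q.i ≫ f.map m = bot.map φ ≫ P.i

theorem Pair.p_x {τ : 𝒯.obj} (P : Pair f bot τ) : 𝒳.p.obj P.x = 𝒯.p.obj τ :=
  (f.w_obj P.x).symm.trans (haveI := P.lift; IsHomLift.codomain_eq 𝒴.p (𝟙 (𝒯.p.obj τ)) P.i)

theorem pull_refl {τ : 𝒯.obj} (P : Pair f bot τ) : Pull (𝟙 τ) P P :=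
  ⟨𝟙 _, by rw [𝒯.p.map_id]; exact IsHomLift.id P.p_x, by
    rw [f.toFunctor.map_id, bot.toFunctor.map_id, Category.comp_id, Category.id_comp]⟩

theorem pull_comp {τ'' τ' τ : 𝒯.obj} {ψ : τ'' ⟶ τ'} {φ : τ' ⟶ τ} {R : Pair f bot τ''}
    {Q : Pair f bot τ'} {P : Pair f bot τ} (h : Pull ψ R Q) (h' : Pull φ Q P) :
    Pull (ψ ≫ φ) R P := by
  obtain ⟨m, hm, e⟩ := h
  obtain ⟨m', hm', e'⟩ := h'
  exact ⟨m ≫ m', by rw [𝒯.p.map_comp]; infer_instance, by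
    rw [f.toFunctor.map_comp, reassoc_of% e, e', bot.toFunctor.map_comp, Category.assoc]⟩

theorem pull_congr {τ' τ : 𝒯.obj} {φ φ' : τ' ⟶ τ} (h : φ = φ') {Q : Pair f bot τ'} {P : Pair f bot τ}
    (hp : Pull φ Q P) : Pull φ' Q P := h ▸ hp

theorem exists_pull (h𝒳 : IsFibGrpd 𝒳.p) (h𝒴 : IsFibGrpd 𝒴.p) {τ' τ : 𝒯.obj} (φ : τ' ⟶ τ)
    (P : Pair f bot τ) : ∃ Q : Pair f bot τ', Pull φ Q P := by
  let m := Yoneda.pbMap h𝒳 P.p_x (𝒯.p.map φ)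
  have hfm : 𝒴.p.IsHomLift (𝒯.p.map φ) (f.map m) := BasedFunctor.preserves_isHomLift f _ _
  have := P.lift
  have hb : 𝒴.p.IsHomLift (𝒯.p.map φ) (bot.map φ) :=
    have := IsHomLift.map 𝒯.p φ
    BasedFunctor.preserves_isHomLift bot _ _
  have := Yoneda.stronglyCartesian h𝒴 (𝒯.p.map φ) (f.map m)
  have hq : 𝒯.p.map φ = 𝟙 (𝒯.p.obj τ') ≫ 𝒯.p.map φ := (Category.id_comp _).symm
  have hbP : 𝒴.p.IsHomLift (𝒯.p.map φ) (bot.map φ ≫ P.i) := inferInstance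
  exact ⟨⟨_, Functor.IsStronglyCartesian.map 𝒴.p (𝒯.p.map φ) (f.map m) hq (bot.map φ ≫ P.i),
    Functor.IsStronglyCartesian.map_isHomLift 𝒴.p (𝒯.p.map φ) (f.map m) hq (bot.map φ ≫ P.i)⟩,
    m, inferInstance, Functor.IsStronglyCartesian.fac 𝒴.p (𝒯.p.map φ) (f.map m) hq (bot.map φ ≫ P.i)⟩

theorem pull_unique (h𝒳 : IsFibGrpd 𝒳.p) (h𝒴 : IsFibGrpd 𝒴.p) {τ' τ : 𝒯.obj} {φ : τ' ⟶ τ}
    {Q Q' : Pair f bot τ'} {P : Pair f bot τ} (h : Pull φ Q P) (h' : Pull φ Q' P) :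
    Pull (𝟙 τ') Q Q' := by
  obtain ⟨m, hm, e⟩ := h
  obtain ⟨m', hm', e'⟩ := h'
  have := Yoneda.stronglyCartesian h𝒳 (𝒯.p.map φ) m'
  let θ := Functor.IsStronglyCartesian.map 𝒳.p (𝒯.p.map φ) m' (g := 𝟙 _) (Category.id_comp _).symm m
  have hθ : 𝒳.p.IsHomLift (𝟙 (𝒯.p.obj τ')) θ := Functor.IsStronglyCartesian.map_isHomLift _ _ _ _ _
  refine ⟨θ, by rw [𝒯.p.map_id]; exact hθ, ?_⟩
  rw [bot.toFunctor.map_id, Category.id_comp]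
  have hfm' : 𝒴.p.IsHomLift (𝒯.p.map φ) (f.map m') := BasedFunctor.preserves_isHomLift f _ _
  have hfθ : 𝒴.p.IsHomLift (𝟙 (𝒯.p.obj τ')) (f.map θ) := BasedFunctor.preserves_isHomLift f _ _
  have := Yoneda.stronglyCartesian h𝒴 (𝒯.p.map φ) (f.map m')
  have := Q.lift
  have := Q'.lift
  refine Functor.IsStronglyCartesian.ext 𝒴.p (𝒯.p.map φ) (f.map m') (𝟙 (𝒯.p.obj τ')) ?_
  rw [Category.assoc, ← f.toFunctor.map_comp, show θ ≫ m' = m from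
    Functor.IsStronglyCartesian.fac _ _ _ _ _, e, e']

theorem pull_symm (h𝒳 : IsFibGrpd 𝒳.p) (h𝒴 : IsFibGrpd 𝒴.p) {τ : 𝒯.obj} {P P' : Pair f bot τ}
    (h : Pull (𝟙 τ) P P') : Pull (𝟙 τ) P' P :=
  pull_unique h𝒳 h𝒴 (pull_refl P') h

theorem pull_left {τ' τ : 𝒯.obj} {φ : τ' ⟶ τ} {Q Q' : Pair f bot τ'} {P : Pair f bot τ}
    (h : Pull (𝟙 τ') Q Q') (h' : Pull φ Q' P) : Pull φ Q P :=
  pull_congr (Category.id_comp φ) (pull_comp h h')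

theorem pull_right {τ' τ : 𝒯.obj} {φ : τ' ⟶ τ} {Q : Pair f bot τ'} {P P' : Pair f bot τ}
    (h' : Pull φ Q P) (h : Pull (𝟙 τ) P P') : Pull φ Q P' :=
  pull_congr (Category.comp_id φ) (pull_comp h' h)

/-! ### The space of lifts over one object -/

section Space

variable (h𝒳 : IsFibGrpd 𝒳.p) (h𝒴 : IsFibGrpd 𝒴.p) {τ : 𝒯.obj}

/-- The chart of the image of an object. -/
noncomputable abbrev chart (bot : 𝒯 ⥤ᵇ 𝒴) (τ : 𝒯.obj) : overCat (𝒯.p.obj τ) ⥤ᵇ 𝒴 :=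
  Yoneda.fromObj h𝒴 (bot.w_obj τ)

instance isHomLift_bot_map {τ' τ : 𝒯.obj} (φ : τ' ⟶ τ) :
    𝒴.p.IsHomLift (𝒯.p.map φ) (bot.map φ) :=
  have := IsHomLift.map 𝒯.p φ
  BasedFunctor.preserves_isHomLift bot _ _

/-- The comparison of a point of the chart with the image of an object. -/
noncomputable def theta {τ' : 𝒯.obj} (φ : τ' ⟶ τ) :
    (chart h𝒴 bot τ).obj (Over.mk (𝒯.p.map φ)) ⟶ bot.obj τ' :=
  have := Yoneda.stronglyCartesian h𝒴 (𝒯.p.map φ) (bot.map φ)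
  have hq : 𝒯.p.map φ = 𝟙 (𝒯.p.obj τ') ≫ 𝒯.p.map φ := (Category.id_comp _).symm
  Functor.IsStronglyCartesian.map 𝒴.p (𝒯.p.map φ) (bot.map φ) hq
    (Yoneda.pbMap h𝒴 (bot.w_obj τ) (𝒯.p.map φ))

theorem theta_isHomLift {τ' : 𝒯.obj} (φ : τ' ⟶ τ) :
    𝒴.p.IsHomLift (𝟙 (𝒯.p.obj τ')) (theta (bot := bot) h𝒴 φ) :=
  have := Yoneda.stronglyCartesian h𝒴 (𝒯.p.map φ) (bot.map φ)
  Functor.IsStronglyCartesian.map_isHomLift 𝒴.p (𝒯.p.map φ) (bot.map φ) (Category.id_comp (𝒯.p.map φ)).symm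
    (Yoneda.pbMap h𝒴 (bot.w_obj τ) (𝒯.p.map φ))

theorem theta_fac {τ' : 𝒯.obj} (φ : τ' ⟶ τ) :
    theta (bot := bot) h𝒴 φ ≫ bot.map φ = Yoneda.pbMap h𝒴 (bot.w_obj τ) (𝒯.p.map φ) :=
  have := Yoneda.stronglyCartesian h𝒴 (𝒯.p.map φ) (bot.map φ)
  Functor.IsStronglyCartesian.fac 𝒴.p (𝒯.p.map φ) (bot.map φ) (Category.id_comp (𝒯.p.map φ)).symm
    (Yoneda.pbMap h𝒴 (bot.w_obj τ) (𝒯.p.map φ))

theorem theta_isIso {τ' : 𝒯.obj} (φ : τ' ⟶ τ) : IsIso (theta (bot := bot) h𝒴 φ) :=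
  have := theta_isHomLift (bot := bot) h𝒴 φ
  BasedBasic.isIso_of_isHomLift_id h𝒴 (R := 𝒯.p.obj τ') _

/-- The point of the fibre product of a lift. -/
noncomputable def obj {τ' : 𝒯.obj} (φ : τ' ⟶ τ) (Q : Pair f bot τ') : (fp (chart h𝒴 bot τ) f).obj :=
  have := theta_isHomLift (bot := bot) h𝒴 φ
  have := theta_isIso (bot := bot) h𝒴 φ
  have := Q.lift
  have := BasedBasic.isIso_of_isHomLift_id h𝒴 (R := 𝒯.p.obj τ') Q.i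
  Lib.Fibred.Fp.mkObj (Over.mk (𝒯.p.map φ)) Q.x (asIso (theta h𝒴 φ ≫ Q.i))
    (show 𝒴.p.IsHomLift (𝟙 (𝒯.p.obj τ')) (theta h𝒴 φ ≫ Q.i) from inferInstance)

variable {G : Sp S} {e : ofSp G ⥤ᵇ fp (chart h𝒴 bot τ) f}

/-- A map to the space corresponds to a lift. -/
def RelP (e : ofSp G ⥤ᵇ fp (chart h𝒴 bot τ) f) {τ' : 𝒯.obj} (φ : τ' ⟶ τ)
    (g : (yon S).obj (𝒯.p.obj τ') ⟶ G) (Q : Pair f bot τ') : Prop :=
  Dict.ObjRel e g (obj h𝒴 φ Q)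

theorem exists_map (he : IsEquivOver e) {τ' : 𝒯.obj} (φ : τ' ⟶ τ) (Q : Pair f bot τ') :
    ∃ g, RelP h𝒴 e φ g Q :=
  Dict.exists_map_obj he (o := obj h𝒴 φ Q) rfl

theorem relP_fst {τ' : 𝒯.obj} {φ : τ' ⟶ τ} {g : (yon S).obj (𝒯.p.obj τ') ⟶ G} {Q : Pair f bot τ'}
    (h : RelP h𝒴 e φ g Q) :
    g ≫ spMapOfOver (BasedFunctor.comp e (fpFst (chart h𝒴 bot τ) f)) = (yon S).map (𝒯.p.map φ) :=
  Dict.comp_fst_obj h (s := 𝒯.p.map φ) rfl (Category.id_comp _).symm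

include h𝒳 in
theorem map_unique (he : IsEquivOver e) {τ' : 𝒯.obj} {φ : τ' ⟶ τ}
    {g g' : (yon S).obj (𝒯.p.obj τ') ⟶ G} {Q : Pair f bot τ'}
    (h : RelP h𝒴 e φ g Q) (h' : RelP h𝒴 e φ g' Q) : g = g' :=
  Dict.map_unique_obj h𝒴 h𝒳 he h h'

include h𝒳 in
theorem relP_comp {τ'' τ' : 𝒯.obj} {χ : τ'' ⟶ τ'} {φ : τ' ⟶ τ}
    {g : (yon S).obj (𝒯.p.obj τ') ⟶ G} {Q' : Pair f bot τ''} {Q : Pair f bot τ'}
    (h : RelP h𝒴 e φ g Q) (hp : Pull χ Q' Q) :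
    RelP h𝒴 e (χ ≫ φ) ((yon S).map (𝒯.p.map χ) ≫ g) Q' := by
  obtain ⟨m, hm, em⟩ := hp
  let mk' : Over.mk (𝒯.p.map (χ ≫ φ)) ⟶ Over.mk (𝒯.p.map φ) :=
    Over.homMk (𝒯.p.map χ) (𝒯.p.map_comp χ φ).symm
  have key : (chart h𝒴 bot τ).map mk' ≫ theta h𝒴 φ = theta h𝒴 (χ ≫ φ) ≫ bot.map χ := by
    have h1 : 𝒴.p.IsHomLift (𝒯.p.map χ) ((chart h𝒴 bot τ).map mk') :=
      Yoneda.map_isHomLift (chart h𝒴 bot τ) mk'
    have := theta_isHomLift (bot := bot) h𝒴 φ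
    have := theta_isHomLift (bot := bot) h𝒴 (χ ≫ φ)
    have h2 : 𝒴.p.IsHomLift (𝒯.p.map χ) ((chart h𝒴 bot τ).map mk' ≫ theta h𝒴 φ) := inferInstance
    have h3 : 𝒴.p.IsHomLift (𝒯.p.map χ) (theta h𝒴 (χ ≫ φ) ≫ bot.map χ) := inferInstance
    have := Yoneda.stronglyCartesian h𝒴 (𝒯.p.map φ) (bot.map φ)
    refine Functor.IsStronglyCartesian.ext 𝒴.p (𝒯.p.map φ) (bot.map φ) (𝒯.p.map χ) ?_
    rw [Category.assoc, Category.assoc, theta_fac, ← bot.toFunctor.map_comp, theta_fac]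
    exact Yoneda.pbHom_fac h𝒴 (bot.w_obj τ) mk'
  let n : obj h𝒴 (χ ≫ φ) Q' ⟶ obj h𝒴 φ Q :=
    Lib.Fibred.Fp.mkHom (z := obj h𝒴 (χ ≫ φ) Q') (w := obj h𝒴 φ Q) mk' m (by
      change (chart h𝒴 bot τ).map mk' ≫ theta h𝒴 φ ≫ Q.i = (theta h𝒴 (χ ≫ φ) ≫ Q'.i) ≫ f.map m
      rw [reassoc_of% key, Category.assoc, em])
  have hn : (fp (chart h𝒴 bot τ) f).p.IsHomLift (𝒯.p.map χ) n :=
    (Lib.Fibred.Fp.isHomLift_iff _ _).2 (IsHomLift.map (overCat (𝒯.p.obj τ)).p mk')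
  exact Dict.objRel_comp h𝒴 h𝒳 h n

theorem exists_pair {τ' : 𝒯.obj} (φ : τ' ⟶ τ) (g : (yon S).obj (𝒯.p.obj τ') ⟶ G)
    (hg : g ≫ spMapOfOver (BasedFunctor.comp e (fpFst (chart h𝒴 bot τ) f)) = (yon S).map (𝒯.p.map φ)) :
    ∃ Q : Pair f bot τ', RelP h𝒴 e φ g Q := by
  have key : ∀ o : (fp (chart h𝒴 bot τ) f).obj, ∀ ho : (fp (chart h𝒴 bot τ) f).p.obj o = 𝒯.p.obj τ',
      o.obj.fst.hom = eqToHom ho ≫ 𝒯.p.map φ →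
      ∃ (Q : Pair f bot τ') (n : o ⟶ obj h𝒴 φ Q),
        (fp (chart h𝒴 bot τ) f).p.IsHomLift (𝟙 (𝒯.p.obj τ')) n := by
    rintro ⟨⟨⟨Ta, ⟨⟨⟩⟩, m⟩, x, i⟩, hi⟩ ho hm
    obtain rfl : Ta = 𝒯.p.obj τ' := ho
    obtain rfl : m = 𝒯.p.map φ := hm.trans (Category.id_comp _)
    have hi' : 𝒴.p.IsHomLift (𝟙 (𝒯.p.obj τ')) i.hom := hi
    have := theta_isHomLift (bot := bot) h𝒴 φ
    have := theta_isIso (bot := bot) h𝒴 φ
    let Q : Pair f bot τ' := ⟨x, inv (theta h𝒴 φ) ≫ i.hom, inferInstance⟩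
    let o : (fp (chart h𝒴 bot τ) f).obj := ⟨⟨Over.mk (𝒯.p.map φ), x, i⟩, hi⟩
    refine ⟨Q, Lib.Fibred.Fp.mkHom (z := o) (w := obj h𝒴 φ Q) (𝟙 (Over.mk (𝒯.p.map φ))) (𝟙 x) ?_, ?_⟩
    · change (chart h𝒴 bot τ).map (𝟙 _) ≫ theta h𝒴 φ ≫ inv (theta h𝒴 φ) ≫ i.hom = i.hom ≫ f.map (𝟙 x)
      rw [(chart h𝒴 bot τ).toFunctor.map_id, f.toFunctor.map_id, IsIso.hom_inv_id_assoc]
      exact (Category.id_comp _).trans (Category.comp_id _).symm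
    · exact (Lib.Fibred.Fp.isHomLift_iff _ _).2
        (IsHomLift.id (p := (overCat (𝒯.p.obj τ)).p) (a := Over.mk (𝒯.p.map φ)) rfl)
  have hs := congrArg (fun k => ((Lib.AlgSpace.secEquiv (F := (yon S).obj (𝒯.p.obj τ)) (𝒯.p.obj τ') k) : ULift (𝒯.p.obj τ' ⟶ 𝒯.p.obj τ)).down) hg
  have hs' : AlgSt.secHom (BasedFunctor.comp e (fpFst (chart h𝒴 bot τ) f)) (Dict.objOf g) =
      𝟙 (𝒯.p.obj τ') ≫ 𝒯.p.map φ := hs
  rw [Category.id_comp, AlgSt.secHom] at hs'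
  obtain ⟨Q, n, hn⟩ := key (e.obj (Dict.objOf g)) (Dict.p_obj_objOf g) (by
    rw [← hs', ← Category.assoc]
    simp
    rfl)
  exact ⟨Q, n, hn⟩

include h𝒳 in
theorem pair_unique {τ' : 𝒯.obj} {φ : τ' ⟶ τ} {g : (yon S).obj (𝒯.p.obj τ') ⟶ G}
    {Q Q' : Pair f bot τ'} (h : RelP h𝒴 e φ g Q) (h' : RelP h𝒴 e φ g Q') : Pull (𝟙 τ') Q Q' := by
  obtain ⟨k, hk⟩ := h
  obtain ⟨k', hk'⟩ := h'
  have := BasedBasic.isIso_of_isHomLift_id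
    (Dict.isFibGrpd (v := chart h𝒴 bot τ) (f := f) h𝒴 h𝒳) (R := 𝒯.p.obj τ') k
  let n := inv k ≫ k'
  have hn : (fp (chart h𝒴 bot τ) f).p.IsHomLift (𝟙 (𝒯.p.obj τ')) n := inferInstance
  have h1 : n.hom.fst = 𝟙 _ := Over.OverMorphism.ext
    ((IsHomLift.fac' (fp (chart h𝒴 bot τ) f).p (𝟙 (𝒯.p.obj τ')) n).trans (by simp; rfl))
  have h2 : 𝒳.p.IsHomLift (𝟙 (𝒯.p.obj τ')) n.hom.snd := Lib.Fibred.Fp.isHomLift_snd n _
  refine ⟨n.hom.snd, by rw [𝒯.p.map_id]; exact h2, ?_⟩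
  have w := Lib.Fibred.Fp.w n
  rw [h1, (chart h𝒴 bot τ).toFunctor.map_id] at w
  have w' : theta h𝒴 φ ≫ Q'.i = (theta h𝒴 φ ≫ Q.i) ≫ f.map n.hom.snd :=
    (Category.id_comp _).symm.trans w
  have := theta_isIso (bot := bot) h𝒴 φ
  rw [bot.toFunctor.map_id, Category.id_comp, ← cancel_epi (theta h𝒴 φ), w', Category.assoc]

end Space

/-! ### Descent and extension -/

variable (h𝒳 : IsFibGrpd 𝒳.p) (h𝒴 : IsFibGrpd 𝒴.p)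

include h𝒳 h𝒴

/-- Lifts agreeing after a locally surjective cover agree. -/
theorem pull_cancel (hf : AlgSt.RepByAlgSp1 f) {τ' τ : 𝒯.obj} (n : τ' ⟶ τ)
    [Sheaf.IsLocallySurjective ((yon S).map (𝒯.p.map n))] {Q : Pair f bot τ'} {P P' : Pair f bot τ}
    (h : Pull n Q P) (h' : Pull n Q P') : Pull (𝟙 τ) P P' := by
  obtain ⟨G, e, he⟩ := hf _ (chart h𝒴 bot τ)
  obtain ⟨g, hg⟩ := exists_map h𝒴 he (𝟙 τ) P
  obtain ⟨g', hg'⟩ := exists_map h𝒴 he (𝟙 τ) P'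
  have : g = g' := (cancel_epi ((yon S).map (𝒯.p.map n))).1
    (map_unique h𝒳 h𝒴 he (relP_comp h𝒳 h𝒴 hg h) (relP_comp h𝒳 h𝒴 hg' h'))
  exact pair_unique h𝒳 h𝒴 hg (this ▸ hg')

/-- Lifts descend along locally surjective covers. -/
theorem pull_descend (hf : AlgSt.RepByAlgSp1 f) {τ'' τ' τ : 𝒯.obj} (n : τ' ⟶ τ)
    [Sheaf.IsLocallySurjective ((yon S).map (𝒯.p.map n))] {q₁ q₂ : τ'' ⟶ τ'}
    (sq : IsPullback (𝒯.p.map q₁) (𝒯.p.map q₂) (𝒯.p.map n) (𝒯.p.map n)) (hq : q₁ ≫ n = q₂ ≫ n)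
    {R : Pair f bot τ''} {Q : Pair f bot τ'} (h₁ : Pull q₁ R Q) (h₂ : Pull q₂ R Q) :
    ∃ P : Pair f bot τ, Pull n Q P := by
  obtain ⟨G, e, he⟩ := hf _ (chart h𝒴 bot τ)
  obtain ⟨g, hg⟩ := exists_map h𝒴 he n Q
  have h1 := relP_comp h𝒳 h𝒴 hg h₁
  rw [hq] at h1
  have heq := map_unique h𝒳 h𝒴 he h1 (relP_comp h𝒳 h𝒴 hg h₂)
  obtain ⟨l, hl⟩ := Lib.AlgSpace.exists_desc ((yon S).map (𝒯.p.map n)) (sq.map (yon S)) g heq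
  have hlγ : l ≫ spMapOfOver (BasedFunctor.comp e (fpFst (chart h𝒴 bot τ) f)) =
      (yon S).map (𝒯.p.map (𝟙 τ)) :=
    (cancel_epi ((yon S).map (𝒯.p.map n))).1 (by
      rw [reassoc_of% hl, relP_fst h𝒴 hg, 𝒯.p.map_id, (yon S).map_id, Category.comp_id])
  obtain ⟨P, hP⟩ := exists_pair h𝒴 (𝟙 τ) l hlγ
  obtain ⟨Q', hQ'⟩ := exists_pull h𝒳 h𝒴 n P
  have h3 := relP_comp h𝒳 h𝒴 hP hQ'
  rw [Category.comp_id, hl] at h3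
  exact ⟨P, pull_left (pair_unique h𝒳 h𝒴 hg h3) hQ'⟩

/-- Sections of affine schemes over the base of the target extend uniquely along `n`. -/
def ExtendsAffine {U V : Over S} (o : U ⟶ V) : Prop :=
  ∀ ⦃W : Over S⦄ (w : W ⟶ V), IsAffineHom w.left → ∀ s : U ⟶ W, s ≫ w = o →
    ∃! l : V ⟶ W, o ≫ l = s ∧ l ≫ w = 𝟙 V

/-- Lifts extend uniquely where sections of affine schemes do. -/
theorem extend (hf : RepByAlgSpWith (RepWith @IsAffineHom) f) {υ τ : 𝒯.obj} (n : υ ⟶ τ)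
    (hn : ExtendsAffine (𝒯.p.map n)) (Q : Pair f bot υ) :
    (∃ P : Pair f bot τ, Pull n Q P) ∧
      ∀ P P' : Pair f bot τ, Pull n Q P → Pull n Q P' → Pull (𝟙 τ) P P' := by
  obtain ⟨G, e, he, hA⟩ := hf _ (chart h𝒴 bot τ)
  obtain ⟨W, w, fst, sq, hw⟩ := Lib.AlgSpace.repWith_exists hA (𝟙 ((yon S).obj (𝒯.p.obj τ)))
  obtain ⟨g, hg⟩ := exists_map h𝒴 he n Q
  obtain ⟨s, hs⟩ := (yon S).map_surjective (sq.lift g ((yon S).map (𝒯.p.map n))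
    (by rw [relP_fst h𝒴 hg, Category.comp_id]))
  have hsw : s ≫ w = 𝒯.p.map n := (yon S).map_injective (by rw [Functor.map_comp, hs, sq.lift_snd])
  have hsf : (yon S).map s ≫ fst = g := by rw [hs, sq.lift_fst]
  obtain ⟨l, ⟨hl₁, hl₂⟩, huniq⟩ := hn w hw s hsw
  refine ⟨?_, fun P P' h h' => ?_⟩
  · have hγ : ((yon S).map l ≫ fst) ≫
        spMapOfOver (BasedFunctor.comp e (fpFst (chart h𝒴 bot τ) f)) = (yon S).map (𝒯.p.map (𝟙 τ)) := by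
      rw [Category.assoc, sq.w, Category.comp_id, ← Functor.map_comp, hl₂, 𝒯.p.map_id]
    obtain ⟨P, hP⟩ := exists_pair h𝒴 (𝟙 τ) _ hγ
    obtain ⟨Q', hQ'⟩ := exists_pull h𝒳 h𝒴 n P
    have h3 := relP_comp h𝒳 h𝒴 hP hQ'
    rw [Category.comp_id, ← Category.assoc, ← Functor.map_comp, hl₁, hsf] at h3
    exact ⟨P, pull_left (pair_unique h𝒳 h𝒴 hg h3) hQ'⟩
  · obtain ⟨k, hk⟩ := exists_map h𝒴 he (𝟙 τ) P
    obtain ⟨k', hk'⟩ := exists_map h𝒴 he (𝟙 τ) P'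
    have key : ∀ (k : (yon S).obj (𝒯.p.obj τ) ⟶ G.obj) (P : Pair f bot τ),
        RelP h𝒴 e (𝟙 τ) k P → Pull n Q P → k = (yon S).map l ≫ fst := by
      intro k P hk hP
      have hkγ := relP_fst h𝒴 hk
      rw [𝒯.p.map_id, (yon S).map_id] at hkγ
      obtain ⟨a, ha⟩ := (yon S).map_surjective (sq.lift k (𝟙 _) (by rw [hkγ]; exact (Category.id_comp _).symm))
      have h3 := relP_comp h𝒳 h𝒴 hk hP
      rw [Category.comp_id] at h3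
      have hkn := map_unique h𝒳 h𝒴 he h3 hg
      have : a = l := huniq a ⟨(yon S).map_injective (sq.hom_ext
        (by rw [Functor.map_comp, Category.assoc, ha, sq.lift_fst, hkn, hsf])
        (by rw [Functor.map_comp, Category.assoc, ha, sq.lift_snd, Category.comp_id, ← (yon S).map_comp, hsw])),
        (yon S).map_injective (by rw [Functor.map_comp, ha, sq.lift_snd, (yon S).map_id])⟩
      rw [← this, ha, sq.lift_fst]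
    exact pair_unique h𝒳 h𝒴 hk (show RelP h𝒴 e (𝟙 τ) k P' by
      rw [key k P hk h, ← key k' P' hk' h']; exact hk')

end Groth.Agent.H14.Extend
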