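import Mathlib.AlgebraicGeometry.Restrict
import Mathlib.RingTheory.TensorProduct.Free
import Groth.Agent.H14.Extend.Pair

/-!
Sections over the complement of the common zero locus of two functions without common torsion.
-/

set_option autoImplicit false

universe u

open CategoryTheory CategoryTheory.Limits AlgebraicGeometry Opposite
open scoped TensorProduct

namespace Groth.Agent.H14.Extend

/-- Two regular elements, the second regular modulo the first. -/
structure RegPair {A : Type*} [CommRing A] (a b : A) : Prop where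
  left : ∀ x, a * x = 0 → x = 0
  right : ∀ x, b * x = 0 → x = 0
  dvd : ∀ x, a ∣ b * x → a ∣ x

namespace RegPair

variable {A : Type*} [CommRing A] {a b : A}

theorem pow_left (h : RegPair a b) : ∀ (n : ℕ) (x : A), a ^ n * x = 0 → x = 0
  | 0, x, hx => by simpa using hx
  | n + 1, x, hx => h.pow_left n x (h.left _ (by rw [← hx, pow_succ]; ring))

theorem pow_right (h : RegPair a b) : ∀ (n : ℕ) (x : A), b ^ n * x = 0 → x = 0
  | 0, x, hx => by simpa using hx
  | n + 1, x, hx => h.pow_right n x (h.right _ (by rw [← hx, pow_succ]; ring))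

theorem dvd_pow_mul (h : RegPair a b) : ∀ (m : ℕ) (x : A), a ∣ b ^ m * x → a ∣ x
  | 0, x, hx => by simpa using hx
  | m + 1, x, hx => h.dvd_pow_mul m x (h.dvd _ (by rw [pow_succ] at hx; rwa [← mul_assoc, mul_comm b]))

theorem pow_dvd (h : RegPair a b) (m : ℕ) : ∀ (n : ℕ) (x : A), a ^ n ∣ b ^ m * x → a ^ n ∣ x
  | 0, x, _ => by simp
  | n + 1, x, hx => by
    obtain ⟨y, rfl⟩ := h.dvd_pow_mul m x (dvd_trans (dvd_pow_self a n.succ_ne_zero) hx)
    obtain ⟨z, hz⟩ := hx
    have hy : a ^ n ∣ b ^ m * y := by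
      refine ⟨z, sub_eq_zero.1 (h.left _ ?_)⟩
      rw [mul_sub, sub_eq_zero, ← mul_assoc a (a ^ n), ← pow_succ', ← hz]
      ring
    obtain ⟨w, rfl⟩ := h.pow_dvd m n y hy
    exact ⟨w, by ring⟩

theorem map_ringEquiv (h : RegPair a b) {B : Type*} [CommRing B] (e : A ≃+* B) :
    RegPair (e a) (e b) where
  left x hx := e.symm.map_eq_zero_iff.1 (h.left _ (e.injective (by simpa using hx)))
  right x hx := e.symm.map_eq_zero_iff.1 (h.right _ (e.injective (by simpa using hx)))
  dvd x hx := by
    have := h.dvd (e.symm x) (by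
      have := map_dvd e.symm hx
      simpa using this)
    simpa using map_dvd e this

theorem tensor {R : Type*} [CommRing R] [Algebra R A] (h : RegPair a b) (L : Type*) [CommRing L]
    [Algebra R L] [Module.Free R L] :
    RegPair (a ⊗ₜ[R] (1 : L)) (b ⊗ₜ[R] (1 : L)) := by
  let B := Algebra.TensorProduct.basis A (Module.Free.chooseBasis R L)
  have hc : ∀ (c : A) (x : A ⊗[R] L) i, B.repr (c ⊗ₜ[R] (1 : L) * x) i = c * B.repr x i := fun c x i => by
    rw [show c ⊗ₜ[R] (1 : L) * x = c • x by rw [Algebra.smul_def]; rfl, map_smul]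
    rfl
  refine ⟨fun x hx => ?_, fun x hx => ?_, fun x hx => ?_⟩
  · refine B.repr.map_eq_zero_iff.1 (Finsupp.ext fun i => h.left _ ?_)
    rw [← hc, hx, map_zero]; rfl
  · refine B.repr.map_eq_zero_iff.1 (Finsupp.ext fun i => h.right _ ?_)
    rw [← hc, hx, map_zero]; rfl
  · obtain ⟨y, hy⟩ := hx
    rw [← B.linearCombination_repr x, Finsupp.linearCombination_apply, Finsupp.sum]
    refine Finset.dvd_sum fun i _ => ?_
    obtain ⟨q, hq⟩ := h.dvd (B.repr x i) ⟨B.repr y i, by rw [← hc, hy, hc]⟩
    exact ⟨q • B i, by rw [hq, mul_smul, Algebra.smul_def a]; rfl⟩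

end RegPair

/-- Sections extend uniquely from the union of the basic opens of a regular pair. -/
theorem bijective_res {V : Scheme.{u}} [IsAffine V] {a b : Γ(V, ⊤)} (h : RegPair a b)
    {U : V.Opens} (hU : U = V.basicOpen a ⊔ V.basicOpen b) :
    Function.Bijective (V.presheaf.map (homOfLE (le_top : U ≤ ⊤)).op) := by
  subst hU
  have hA := fun f : Γ(V, ⊤) => (isAffineOpen_top V).isLocalization_basicOpen f
  have hab : ∀ x : Γ(V, ⊤), V.presheaf.map (homOfLE (le_top : V.basicOpen (a * b) ≤ ⊤)).op x = 0 → x = 0 := by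
    intro x hx
    have := hA (a * b)
    obtain ⟨⟨_, k, rfl⟩, hk⟩ := (IsLocalization.map_eq_zero_iff (Submonoid.powers (a * b)) _ x).1 hx
    refine h.pow_right k x (h.pow_left k _ ?_)
    rw [← mul_assoc, ← mul_pow]
    exact hk
  have res : ∀ {W W' : V.Opens} (e : W' ≤ W) (e' : W ≤ ⊤) (x : Γ(V, ⊤)),
      V.presheaf.map (homOfLE e).op (V.presheaf.map (homOfLE e').op x) =
        V.presheaf.map (homOfLE (le_top : W' ≤ ⊤)).op x := fun e e' x => by
    rw [← CommRingCat.comp_apply, ← Functor.map_comp]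
    rfl
  refine ⟨fun x y hxy => sub_eq_zero.1 (hab _ ?_), fun s => ?_⟩
  · rw [map_sub, sub_eq_zero, ← res (W := V.basicOpen a ⊔ V.basicOpen b)
      (by rw [Scheme.basicOpen_mul]; exact inf_le_left.trans le_sup_left) le_top x, hxy, res]
  let sa := V.presheaf.map (homOfLE (le_sup_left : V.basicOpen a ≤ V.basicOpen a ⊔ V.basicOpen b)).op s
  let sb := V.presheaf.map (homOfLE (le_sup_right : V.basicOpen b ≤ V.basicOpen a ⊔ V.basicOpen b)).op s
  have := hA a
  have := hA b
  obtain ⟨n, x, hx⟩ := IsLocalization.Away.surj a sa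
  obtain ⟨m, y, hy⟩ := IsLocalization.Away.surj b sb
  have hx' : sa * V.presheaf.map (homOfLE (le_top : V.basicOpen a ≤ ⊤)).op (a ^ n) =
      V.presheaf.map (homOfLE le_top).op x := by rw [map_pow]; exact hx
  have hy' : sb * V.presheaf.map (homOfLE (le_top : V.basicOpen b ≤ ⊤)).op (b ^ m) =
      V.presheaf.map (homOfLE le_top).op y := by rw [map_pow]; exact hy
  have hla : V.basicOpen (a * b) ≤ V.basicOpen a := by rw [Scheme.basicOpen_mul]; exact inf_le_left
  have hlb : V.basicOpen (a * b) ≤ V.basicOpen b := by rw [Scheme.basicOpen_mul]; exact inf_le_right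
  have e1 : x * b ^ m = y * a ^ n := by
    refine sub_eq_zero.1 (hab _ ?_)
    have h1 := congrArg (V.presheaf.map (homOfLE hla).op) hx'
    have h2 := congrArg (V.presheaf.map (homOfLE hlb).op) hy'
    have hs : V.presheaf.map (homOfLE hla).op sa = V.presheaf.map (homOfLE hlb).op sb := by
      simp only [sa, sb, ← CommRingCat.comp_apply, ← Functor.map_comp]
      rfl
    rw [map_mul, res] at h1 h2
    rw [res] at h1 h2
    rw [map_sub, map_mul, map_mul, sub_eq_zero, ← h1, ← h2, hs]
    ring
  obtain ⟨q, hq⟩ := h.pow_dvd m n x ⟨y, by rw [mul_comm, e1, mul_comm]⟩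
  have hy2 : y = b ^ m * q := by
    refine sub_eq_zero.1 (h.pow_left n _ ?_)
    rw [mul_sub, sub_eq_zero, mul_comm, ← e1, hq]
    ring
  refine ⟨q, V.sheaf.eq_of_locally_eq₂ (homOfLE le_sup_left) (homOfLE le_sup_right) le_rfl _ _ ?_ ?_⟩
  · refine (res le_sup_left le_top q).trans ((IsUnit.mul_left_inj (IsLocalization.map_units _
      (⟨a ^ n, n, rfl⟩ : Submonoid.powers a))).1 ?_)
    exact ((map_mul _ q (a ^ n)).symm.trans (by rw [mul_comm, ← hq])).trans hx'.symm
  · refine (res le_sup_right le_top q).trans ((IsUnit.mul_left_inj (IsLocalization.map_units _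
      (⟨b ^ m, m, rfl⟩ : Submonoid.powers b))).1 ?_)
    exact ((map_mul _ q (b ^ m)).symm.trans (by rw [mul_comm, ← hy2])).trans hy'.symm

/-- Restriction from the union of the basic opens of a regular pair is bijective. -/
theorem bijective_ι_appTop {V : Scheme.{u}} [IsAffine V] {a b : Γ(V, ⊤)} (h : RegPair a b)
    {U : V.Opens} (hU : U = V.basicOpen a ⊔ V.basicOpen b) : Function.Bijective U.ι.appTop := by
  rw [Scheme.Opens.ι_appTop]
  exact bijective_res h (U.ι_image_top.trans hU)

/-- Sections of affine schemes extend uniquely when functions do. -/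
theorem extendsAffine_of_bijective {S : Scheme.{u}} {U V : Over S} (o : U ⟶ V) [IsAffine V.left]
    (ho : Function.Bijective o.left.appTop) : ExtendsAffine o := by
  intro W w hw s hsw
  have : IsAffine W.left := isAffine_of_isAffineHom w.left
  have hsl : s.left ≫ w.left = o.left := congrArg CommaMorphism.left hsw
  have : IsIso o.left.appTop := (ConcreteCategory.isIso_iff_bijective _).2 ho
  let l₀ : V.left ⟶ W.left :=
    V.left.toSpecΓ ≫ Spec.map (s.left.appTop ≫ inv o.left.appTop) ≫ W.left.isoSpec.inv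
  have hl : o.left ≫ l₀ = s.left := by
    rw [← cancel_mono W.left.isoSpec.hom]
    simp only [l₀, Category.assoc, Iso.inv_hom_id, Category.comp_id]
    rw [Scheme.toSpecΓ_naturality_assoc, ← Spec.map_comp, Category.assoc, IsIso.inv_hom_id,
      Category.comp_id, ← Scheme.toSpecΓ_naturality, Scheme.isoSpec_hom]
  have key : ∀ {Y : Scheme.{u}} [IsAffine Y] (f g : V.left ⟶ Y), o.left ≫ f = o.left ≫ g → f = g :=
    fun f g e => ext_of_isAffine (by
      have := congrArg Scheme.Hom.appTop e
      rwa [Scheme.Hom.comp_appTop, Scheme.Hom.comp_appTop, cancel_mono] at this)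
  have hlw : l₀ ≫ w.left = 𝟙 _ := key _ _ (by rw [reassoc_of% hl, hsl, Category.comp_id])
  refine ⟨Over.homMk l₀ (by rw [← Over.w w, ← Category.assoc, hlw, Category.id_comp]),
    ⟨Over.OverMorphism.ext hl, Over.OverMorphism.ext hlw⟩, fun l hl' => Over.OverMorphism.ext (key _ _ ?_)⟩
  exact (congrArg CommaMorphism.left hl'.1).trans hl.symm

end Groth.Agent.H14.Extend
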