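import Groth.Agent.H14.Extend.Core
import Groth.Agent.H14.Extend.Regular
import Groth.Agent.Lib.QuotSt.Atlas
import Groth.Prelude.Def_ThetaS
import Mathlib.AlgebraicGeometry.Morphisms.LocalFlatDescent

/-!
The atlas of a quotient stack of an affine scheme on which affine sections extend from an invariant open.
-/

set_option autoImplicit false
set_option backward.isDefEq.respectTransparency false
set_option backward.isDefEq.respectTransparency.types false

universe u

open CategoryTheory CategoryTheory.Limits MonoidalCategory CartesianMonoidalCategory MonObj GrpObj AlgebraicGeometry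

namespace Groth.Agent.H14.Extend

open AlgSt (QuotObj QuotSt quotMap ofSch leftMul)
open Groth.Agent.Lib.QuotSt (trivObj ofPoint point)
open Groth.Agent.H14.Sep (Cover.Fppf)
open FibCat (IsFibGrpd)

variable {S' S : Scheme.{u}}

/-- A category fibred in groupoids over `S'` is one over `S`. -/
theorem isFibGrpd_overS (h : S' ⟶ S) (𝒯 : AlgSt.Cat S') (h𝒯 : IsFibGrpd 𝒯.p) :
    IsFibGrpd (ThetaS.overS h 𝒯).p where
  exists_lift {a V} f := by
    have hV : (Over.map h).obj (Over.mk (f.left ≫ (𝒯.p.obj a).hom)) = V := by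
      change Over.mk ((f.left ≫ (𝒯.p.obj a).hom) ≫ h) = Over.mk V.hom
      congr 1
      rw [Category.assoc]
      exact Over.w f
    let f' : Over.mk (f.left ≫ (𝒯.p.obj a).hom) ⟶ 𝒯.p.obj a := Over.homMk f.left
    obtain ⟨b, φ, hφ⟩ := h𝒯.exists_lift f'
    have e : 𝒯.p.obj b = Over.mk (f.left ≫ (𝒯.p.obj a).hom) := IsHomLift.domain_eq 𝒯.p f' φ
    refine ⟨b, φ, IsHomLift.of_fac' (ThetaS.overS h 𝒯).p f φ ((congrArg _ e).trans hV) rfl ?_⟩
    refine Over.OverMorphism.ext ?_
    have hf : 𝒯.p.map φ = eqToHom e ≫ f' := by simpa using IsHomLift.fac' 𝒯.p f' φ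
    change (𝒯.p.map φ).left = _
    rw [hf]
    simp [f', Over.eqToHom_left]
  isStronglyCartesian {b a} φ :=
    { toIsHomLift := IsHomLift.map _ φ
      universal_property' := fun {c} k φ' hφ' => by
        have hm : k.left ≫ (𝒯.p.map φ).left = (𝒯.p.map φ').left :=
          (congrArg CommaMorphism.left ((IsHomLift.fac' (ThetaS.overS h 𝒯).p
            (k ≫ (ThetaS.overS h 𝒯).p.map φ) φ').trans (by simp) :
              (ThetaS.overS h 𝒯).p.map φ' = k ≫ (ThetaS.overS h 𝒯).p.map φ)).symm
        let k' : 𝒯.p.obj c ⟶ 𝒯.p.obj b := Over.homMk k.left (by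
          rw [← Over.w (𝒯.p.map φ), ← Category.assoc]
          exact (congrArg (· ≫ (𝒯.p.obj a).hom) hm).trans (Over.w (𝒯.p.map φ')))
        have hk : (Over.map h).map k' = k := Over.OverMorphism.ext rfl
        have := h𝒯.isStronglyCartesian φ
        have hg : 𝒯.p.map φ' = k' ≫ 𝒯.p.map φ := Over.OverMorphism.ext hm.symm
        let χ := Functor.IsStronglyCartesian.map 𝒯.p (𝒯.p.map φ) φ hg φ'
        have hχ : 𝒯.p.IsHomLift k' χ := Functor.IsStronglyCartesian.map_isHomLift _ _ _ _ _
        refine ⟨χ, ⟨?_, Functor.IsStronglyCartesian.fac _ _ _ _ _⟩, fun χ' hχ' => ?_⟩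
        · refine IsHomLift.of_fac' (ThetaS.overS h 𝒯).p k χ rfl rfl ?_
          simp only [eqToHom_refl, Category.id_comp, Category.comp_id]
          change (Over.map h).map (𝒯.p.map χ) = k
          rw [← hk, show 𝒯.p.map χ = k' by simpa using IsHomLift.fac' 𝒯.p k' χ]
        · have e : 𝒯.p.map χ' = k' := by
            refine Over.OverMorphism.ext ?_
            have := hχ'.1
            have := congrArg CommaMorphism.left (IsHomLift.fac' (ThetaS.overS h 𝒯).p k χ')
            simpa [k'] using this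
          have : 𝒯.p.IsHomLift k' χ' := e ▸ IsHomLift.map 𝒯.p χ'
          exact Functor.IsStronglyCartesian.map_uniq 𝒯.p (𝒯.p.map φ) φ hg φ' χ' hχ'.2 }

section

variable {G X : Over S'} [GrpObj G] {aX : AlgGrp.Action G X}

set_option quotPrecheck false in
local notation "K" => Scheme.fppfPrecoverage

/-- The equivariant map lands in the open. -/
def Lands (U : X.left.Opens) (A : QuotObj K G aX) : Prop := A.φ.left ⁻¹ᵁ U = ⊤

theorem lands_of_hom {U : X.left.Opens} {A B : QuotObj K G aX} (m : A ⟶ B) (hB : Lands U B) : Lands U A := by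
  unfold Lands at *
  rw [← m.wφ, Over.comp_left, Scheme.Hom.comp_preimage, hB]
  rfl

/-- The object over the scheme itself. -/
noncomputable abbrev eta : QuotObj K G aX := trivObj K aX (𝟙 X)

/-- The morphism of trivial objects given by a morphism over the scheme. -/
noncomputable def trivMap {T T' : Over S'} {x : T ⟶ X} {x' : T' ⟶ X} (t : T' ⟶ T) (e : t ≫ x = x') :
    trivObj K aX x' ⟶ trivObj K aX x :=
  (quotMap K G aX).map ((AlgSt.ofOverCat X).map (Over.homMk t e : Over.mk x' ⟶ Over.mk x))

theorem trivMap_base {T T' : Over S'} {x : T ⟶ X} {x' : T' ⟶ X} (t : T' ⟶ T) (e : t ≫ x = x') :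
    (trivMap (aX := aX) t e).base = t := rfl

theorem trivMap_top {T T' : Over S'} {x : T ⟶ X} {x' : T' ⟶ X} (t : T' ⟶ T) (e : t ≫ x = x') :
    (trivMap (aX := aX) t e).top = G ◁ t := rfl

theorem lands_trivObj {U : X.left.Opens} (hU : aX.act.left ⁻¹ᵁ U = (snd G X).left ⁻¹ᵁ U)
    {T : Over S'} (x : T ⟶ X) (hx : x.left ⁻¹ᵁ U = ⊤) : Lands U (trivObj K aX x) := by
  change ((G ◁ x) ≫ aX.act).left ⁻¹ᵁ U = ⊤
  rw [Over.comp_left, Scheme.Hom.comp_preimage, hU, ← Scheme.Hom.comp_preimage, ← Over.comp_left,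
    whiskerLeft_snd, Over.comp_left, Scheme.Hom.comp_preimage, hx]
  rfl

/-- The open as an object. -/
abbrev openObj {Y : Over S'} (V : Y.left.Opens) : Over S' := Over.mk (V.ι ≫ Y.hom)

/-- The inclusion of the open. -/
abbrev openIncl {Y : Over S'} (V : Y.left.Opens) : openObj V ⟶ Y := Over.homMk V.ι

theorem exists_openLift {Y T : Over S'} (t : T ⟶ Y) (V : Y.left.Opens) (h : t.left ⁻¹ᵁ V = ⊤) :
    ∃ t' : T ⟶ openObj V, t' ≫ openIncl V = t := by
  have hr : Set.range t.left ⊆ Set.range V.ι := by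
    rintro _ ⟨p, rfl⟩
    rw [Scheme.Opens.range_ι]
    have : p ∈ t.left ⁻¹ᵁ V := by rw [h]; trivial
    exact this
  exact ⟨Over.homMk (IsOpenImmersion.lift V.ι t.left hr) (by simp [reassoc_of% IsOpenImmersion.lift_fac V.ι t.left hr]),
    Over.OverMorphism.ext (IsOpenImmersion.lift_fac _ _ _)⟩

/-- An affine quotient presentation gives an atlas on which affine sections extend. -/
theorem atlas (h : S' ⟶ S) [Flat G.hom] [LocallyOfFinitePresentation G.hom] [IsAffine X.left]
    [IsAffine (G ⊗ X).left] (U : X.left.Opens) (hU : aX.act.left ⁻¹ᵁ U = (snd G X).left ⁻¹ᵁ U)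
    (h₁ : Function.Bijective U.ι.appTop)
    (h₂ : Function.Bijective ((snd G X).left ⁻¹ᵁ U).ι.appTop) :
    Atlas (𝒯 := ThetaS.overS h (QuotSt K G aX)) (Lands U) where
  of_hom m hB := lands_of_hom m hB
  cov := by
    have hK := Scheme.fppfPrecoverage_le_fpqcPrecoverage.{u}
    refine ⟨eta, fun A => ?_, ?_, ?_⟩
    · refine ⟨trivObj K aX A.φ, ofPoint A.φ A.π (𝟙 A.P) (Category.id_comp _) (Category.id_comp _),
        trivMap A.φ (Category.comp_id _), ?_⟩
      exact ⟨Lib.QuotSt.property_π (P := @Flat) hK A ‹_›,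
        Lib.QuotSt.property_π (P := @LocallyOfFinitePresentation) hK A ‹_›, Lib.QuotSt.surjective_π hK A⟩
    · let n : trivObj K aX (openIncl U) ⟶ eta := trivMap (openIncl U) (Category.comp_id _)
      refine ⟨trivObj K aX (openIncl U), n, lands_trivObj hU _ U.ι_preimage_self, ?_, fun {A} k hA => ?_⟩
      · refine @extendsAffine_of_bijective _ _ _ _ ?_ h₁
        exact ‹IsAffine X.left›
      · obtain ⟨b', hb'⟩ := exists_openLift (show A.base ⟶ X from k.base) U (by
          have := Lib.QuotSt.surjective_π hK A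
          apply TopologicalSpace.Opens.ext
          refine Set.preimage_injective.2 A.π.left.surjective ?_
          change ((A.π.left ⁻¹ᵁ (k.base.left ⁻¹ᵁ U) : A.P.left.Opens) : Set A.P.left) = _
          have e : A.π ≫ k.base = k.top ≫ snd G X := k.cart.w.symm
          erw [← Scheme.Hom.comp_preimage, ← Over.comp_left, e, Over.comp_left, Scheme.Hom.comp_preimage,
            ← hU, ← Scheme.Hom.comp_preimage, ← Over.comp_left]
          have hA' : A.φ.left ⁻¹ᵁ U = ⊤ := hA
          have e' : k.top ≫ aX.act = A.φ := by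
            rw [← k.wφ]
            change _ = k.top ≫ (G ◁ 𝟙 X) ≫ aX.act
            erw [MonoidalCategory.whiskerLeft_id, Category.id_comp]
          erw [e', hA']
          rfl)
        obtain ⟨l, ⟨-, hl⟩, -⟩ := Lib.QuotSt.exists_factor n k b' hb'
        exact ⟨l, hl⟩
    · let s₀ : G ⊗ X ⟶ G ⊗ X := lift (fst G X)⁻¹ aX.act
      let p₁ : trivObj K aX (snd G X) ⟶ eta := trivMap (snd G X) (Category.comp_id _)
      let p₂ : trivObj K aX (snd G X) ⟶ eta := ofPoint (A := eta) (snd G X) aX.act s₀ (lift_snd _ _) (by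
        change lift (fst G X)⁻¹ aX.act ≫ (G ◁ 𝟙 X) ≫ aX.act = snd G X
        erw [MonoidalCategory.whiskerLeft_id, Category.id_comp]
        conv_lhs => enter [1, 2]; rw [← Category.id_comp aX.act, ← lift_fst_snd]
        rw [← Lib.QuotSt.Act.mul_smul, inv_mul_cancel, Lib.QuotSt.Act.one_smul])
      refine ⟨trivObj K aX (snd G X), p₁, p₂, fun {A} k k' => ?_, ?_⟩
      · let b : A.base ⟶ X := k.base
        let b' : A.base ⟶ X := k'.base
        let s : A.base ⟶ A.P := k.cart.lift (lift (1 : A.base ⟶ G) b) (𝟙 _)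
          (by erw [lift_snd, Category.id_comp])
        have hs₁ : s ≫ k.top = lift 1 b := k.cart.lift_fst _ _ _
        have hs₂ : s ≫ A.π = 𝟙 _ := k.cart.lift_snd _ _ _
        let c : A.base ⟶ G := s ≫ k'.top ≫ fst G X
        have hs₃ : s ≫ k'.top = lift c b' := by
          apply CartesianMonoidalCategory.hom_ext
          · erw [lift_fst, Category.assoc]; rfl
          · erw [lift_snd, Category.assoc]
            erw [k'.cart.w]
            exact (Category.assoc _ _ _).symm.trans ((congrArg (· ≫ k'.base) hs₂).trans (Category.id_comp _))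
        have hφ₁ : s ≫ A.φ = b := by
          rw [← k.wφ]
          change s ≫ k.top ≫ (G ◁ 𝟙 X) ≫ aX.act = b
          erw [MonoidalCategory.whiskerLeft_id, Category.id_comp]
          erw [reassoc_of% hs₁]
          exact Lib.QuotSt.Act.one_smul _ _
        have hφ₂ : s ≫ A.φ = lift c b' ≫ aX.act := by
          rw [← k'.wφ]
          change s ≫ k'.top ≫ (G ◁ 𝟙 X) ≫ aX.act = _
          erw [MonoidalCategory.whiskerLeft_id, Category.id_comp]
          erw [reassoc_of% hs₃]
        have hb' : lift c⁻¹ b ≫ aX.act = b' := by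
          rw [← hφ₁, hφ₂, ← Lib.QuotSt.Act.mul_smul, inv_mul_cancel, Lib.QuotSt.Act.one_smul]
        obtain ⟨l, ⟨hl₁, hl₂⟩, -⟩ := Lib.QuotSt.exists_factor p₁ k (lift c⁻¹ b) (lift_snd _ _)
        refine ⟨l, hl₂, ?_⟩
        let e : trivObj K aX (s ≫ A.φ) ⟶ A := ofPoint (s ≫ A.φ) (𝟙 _) s hs₂ rfl
        have : IsIso e.base := inferInstanceAs (IsIso (𝟙 A.base))
        have := Lib.QuotSt.isIso_of_base e
        rw [← cancel_epi e]
        refine Lib.QuotSt.hom_ext_of_point ?_
        have he : ∀ {B : QuotObj K G aX} (q : A ⟶ B), point (e ≫ q) = s ≫ q.top := fun q => by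
          rw [point, QuotObj.comp_top, ← Category.assoc]
          exact congrArg (· ≫ q.top) (Lib.QuotSt.point_ofPoint _ _ _ _ _)
        erw [he, he]
        rw [hs₃, QuotObj.comp_top, ← Category.assoc]
        have hl₃ : s ≫ l.top = lift 1 (lift c⁻¹ b) := by
          apply CartesianMonoidalCategory.hom_ext
          · erw [lift_fst]
            have h1 : (l ≫ p₁).top = k.top := congrArg QuotObj.Hom.top hl₂
            have h2 : s ≫ (l.top ≫ (G ◁ snd G X)) = lift 1 b := (congrArg (s ≫ ·) h1).trans hs₁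
            have h3 := congrArg (· ≫ fst G X) h2
            simp only [Category.assoc, whiskerLeft_fst, lift_fst] at h3
            erw [Category.assoc]
            exact h3
          · erw [lift_snd, Category.assoc]
            erw [l.cart.w]
            rw [hl₁]
            exact (Category.assoc _ _ _).symm.trans ((congrArg (· ≫ _) hs₂).trans (Category.id_comp _))
        erw [hl₃]
        change lift 1 (lift c⁻¹ b) ≫ (G ◁ s₀) ≫ (leftMul G X).act = lift c b'
        rw [lift_whiskerLeft_assoc, comp_lift, GrpObj.comp_inv, lift_fst, hb', _root_.inv_inv, Lib.QuotSt.lift_leftMul,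
          _root_.one_mul]
      · let V := (snd G X).left ⁻¹ᵁ U
        refine ⟨trivObj K aX (openIncl V ≫ snd G X), trivMap (openIncl V) rfl, lands_trivObj hU _ ?_, ?_⟩
        · rw [Over.comp_left, Scheme.Hom.comp_preimage]
          exact V.ι_preimage_self
        · refine @extendsAffine_of_bijective _ _ _ _ ?_ h₂
          exact ‹IsAffine (G ⊗ X).left›

end

end Groth.Agent.H14.Extend
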