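import Groth.Agent.H14.Extend.Uniq
import Groth.Agent.H14.Extend.GmAtlas
import Groth.Agent.Lib.AlgStack.SetoidalApps

/-!
Uniqueness of lifts along the point one of the quotient of the line.
-/

set_option autoImplicit false
set_option linter.style.haveILetI false
set_option backward.isDefEq.respectTransparency false
set_option backward.isDefEq.respectTransparency.types false

noncomputable section

universe u

open CategoryTheory CategoryTheory.Limits MonoidalCategory CartesianMonoidalCategory MonObj GrpObj AlgebraicGeometry Opposite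
open scoped TensorProduct

namespace Groth.Agent.H14.Extend

open ThetaS (Lau Gm zPow Line lineAction linePt lineOne)
open CoactBr (sp pt)
open Groth.Agent.Lib.QuotSt (trivObj ofPoint)

section

variable {S' : Scheme.{u}} {G X : Over S'} [GrpObj G] {aX : AlgGrp.Action G X}

/-- A trivial object maps to the object over the scheme along the translates of its point. -/
def orbitMap {T : Over S'} (c : T ⟶ G) (x : T ⟶ X) :
    trivObj Scheme.fppfPrecoverage aX x ⟶ eta :=
  ofPoint (A := eta) x (lift c x ≫ aX.act) (lift c⁻¹ (lift c x ≫ aX.act)) (lift_snd _ _) (by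
    change lift c⁻¹ (lift c x ≫ aX.act) ≫ (G ◁ 𝟙 X) ≫ aX.act = x
    erw [MonoidalCategory.whiskerLeft_id, Category.id_comp]
    rw [← Lib.QuotSt.Act.mul_smul, inv_mul_cancel, Lib.QuotSt.Act.one_smul])

theorem orbitMap_base {T : Over S'} (c : T ⟶ G) (x : T ⟶ X) :
    (orbitMap (aX := aX) c x).base = lift c x ≫ aX.act := rfl

end

variable (R : Type u) [CommRing R]

theorem lfp_Gm' : LocallyOfFinitePresentation (Gm R).hom := by
  haveI : Algebra.FiniteType ℤ (MonoidAlgebra ℤ (Multiplicative ℤ)) := inferInstance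
  haveI : Algebra.FinitePresentation ℤ (MonoidAlgebra ℤ (Multiplicative ℤ)) :=
    Algebra.FinitePresentation.of_finiteType.mp inferInstance
  haveI : Algebra.FinitePresentation R (MonoidAlgebra R (Multiplicative ℤ)) :=
    Algebra.FinitePresentation.equiv (MonoidAlgebra.scalarTensorEquiv ℤ R (M := Multiplicative ℤ))
  change LocallyOfFinitePresentation (Spec.map (CommRingCat.ofHom (algebraMap R (MonoidAlgebra R (Multiplicative ℤ)))))
  exact (HasRingHomProperty.Spec_iff (P := @LocallyOfFinitePresentation)).2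
    (RingHom.finitePresentation_algebraMap.2 inferInstance)

/-- The orbit of the point one. -/
def orbitOne : Gm R ⟶ Line R :=
  lift (𝟙 (Gm R)) (Over.homMk ((Gm R).hom ≫ ThetaS.onePt R)
    (by rw [Category.assoc, ThetaS.onePt_hom, Category.comp_id])) ≫ (lineAction R).act

theorem orbitOne_eq : orbitOne R = pt (linePt (zPow R 1)) := by
  have e1 : (Over.homMk ((Gm R).hom ≫ ThetaS.onePt R)
      (by rw [Category.assoc, ThetaS.onePt_hom, Category.comp_id]) : Gm R ⟶ Line R) = pt (linePt (1 : Lau R)) := by
    refine Over.OverMorphism.ext ?_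
    show (Gm R).hom ≫ (pt (lineOne R)).left = (pt (linePt (1 : Lau R))).left
    rw [CoactBr.pt_left, CoactBr.pt_left,
      show (linePt (1 : Lau R) : Polynomial R →ₐ[R] Lau R) = (Algebra.ofId R (Lau R)).comp (lineOne R) from
        Polynomial.algHom_ext (by simp; rfl)]
    change Spec.map _ ≫ Spec.map _ = _
    rw [← Spec.map_comp]
    rfl
  rw [orbitOne, e1, show 𝟙 (Gm R) = pt (AlgHom.id R (Lau R)) from CoactBr.pt_id.symm]
  refine (ThetaS.lineAction_pt _ _).trans ?_
  simp [MonoidAlgebra.one_def]

theorem injective_linePt : Function.Injective (linePt (R := R) (zPow R 1)) := by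
  rw [injective_iff_map_eq_zero]
  intro p hp
  have key : ∀ q : Polynomial R, linePt (R := R) (zPow R 1) q =
      q.sum fun k a => MonoidAlgebra.single (Multiplicative.ofAdd (k : ℤ)) a := fun q => by
    show Polynomial.aeval (zPow R 1) q = _
    rw [Polynomial.aeval_def, Polynomial.eval₂_eq_sum, Polynomial.sum_def, Polynomial.sum_def]
    refine Finset.sum_congr rfl fun k _ => ?_
    rw [MonoidAlgebra.single_pow, one_pow, MonoidAlgebra.coe_algebraMap, Function.comp_apply,
      MonoidAlgebra.single_mul_single, _root_.one_mul, _root_.mul_one]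
    simp [← ofAdd_nsmul]
  refine Polynomial.ext fun k => ?_
  have h1 := congrArg (fun x : Lau R => x.coeff (Multiplicative.ofAdd (k : ℤ))) ((key p).symm.trans hp)
  simpa [Polynomial.sum_def, Finsupp.single_apply] using h1

variable {S : Scheme.{u}} (h : Spec (CommRingCat.of R) ⟶ S) {𝒳 𝒴 : AlgSt.Cat S} {f : 𝒳 ⥤ᵇ 𝒴}

/-- Representable separated functors have unique lifts along the point one. -/
theorem liftsUnique_thetaOne (h𝒳 : AlgSt.IsAlgStack Scheme.fppfPrecoverage 𝒳)
    (h𝒴 : AlgSt.IsAlgStack Scheme.fppfPrecoverage 𝒴) (hrep : AlgSt.RepByAlgSp1 f)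
    (hsep : AlgSt.IsSeparatedMor f) :
    LiftSq.LiftsUnique (ThetaS.thetaOne Scheme.fppfPrecoverage R h) f := by
  intro sq
  have := flat_Gm (R := R)
  have := lfp_Gm' R
  haveI : f.toFunctor.Faithful := (Lib.AlgStack.SetoidalApps.faithful_iff_repByAlgSp1 h𝒳 h𝒴 f).2 hrep
  have hK := Scheme.fppfPrecoverage_le_fpqcPrecoverage.{u}
  let η₀ : (ThetaS.Theta Scheme.fppfPrecoverage R h).obj :=
    (eta : AlgSt.QuotObj Scheme.fppfPrecoverage (Gm R) (lineAction R))
  haveI : IsAffine ((ThetaS.Theta Scheme.fppfPrecoverage R h).p.obj η₀).left := inferInstanceAs (IsAffine (Spec _))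
  let v : (ThetaS.baseSt h).obj := Gm R
  let x : Gm R ⟶ Line R := Over.homMk ((Gm R).hom ≫ ThetaS.onePt R)
    (by rw [Category.assoc, ThetaS.onePt_hom, Category.comp_id])
  let n₀ : trivObj Scheme.fppfPrecoverage (lineAction R) x ⟶ eta := orbitMap (𝟙 (Gm R)) x
  refine uniqLift sq h𝒳.isStack.1 h𝒴.isStack.1 hrep hsep η₀ (fun A => ?_) v n₀ ?_
  · refine ⟨trivObj Scheme.fppfPrecoverage (lineAction R) A.φ,
      ofPoint A.φ A.π (𝟙 A.P) (Category.id_comp _) (Category.id_comp _), trivMap A.φ (Category.comp_id _), ?_⟩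
    exact ⟨Lib.QuotSt.property_π (P := @Flat) hK A ‹_›,
      Lib.QuotSt.property_π (P := @LocallyOfFinitePresentation) hK A ‹_›, Lib.QuotSt.surjective_π hK A⟩
  · change Function.Injective (orbitOne R).left.appTop
    rw [orbitOne_eq]
    intro a b hab
    obtain ⟨a, rfl⟩ := (Scheme.ΓSpecIso (CommRingCat.of (Polynomial R))).symm.commRingCatIsoToRingEquiv.surjective a
    obtain ⟨b, rfl⟩ := (Scheme.ΓSpecIso (CommRingCat.of (Polynomial R))).symm.commRingCatIsoToRingEquiv.surjective b
    refine congrArg _ (injective_linePt R ?_)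
    apply (Scheme.ΓSpecIso (CommRingCat.of (Lau R))).symm.commRingCatIsoToRingEquiv.injective
    exact ((appTop_pt _ a).symm.trans hab).trans (appTop_pt _ b)

end Groth.Agent.H14.Extend
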