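import Groth.Agent.H14.Extend.Core
import Groth.Agent.H14.Sep.Main2
import Groth.Agent.Lib.AlgSpMor.MonoLft

/-!
Uniqueness of lifts along separated representable functors from a schematically dominant point of an atlas.
-/

set_option autoImplicit false
set_option linter.style.haveILetI false
set_option backward.isDefEq.respectTransparency false
set_option backward.isDefEq.respectTransparency.types false

universe v w u

open CategoryTheory CategoryTheory.Limits AlgebraicGeometry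

namespace Groth.Agent.H14.Extend

open Groth.Agent.Lib.AlgStack
open Groth.Agent.H14.Sep (Cover.Fppf)
open FibCat (IsFibGrpd fp fpFst)
open AlgSt (RepByAlgSp1 spMapOfOver)
open AlgSp (yon RepWith)

variable {S : Scheme.{u}}

/-- A closed immersion into an affine scheme through which a schematically dominant map factors is an isomorphism. -/
theorem isIso_of_dominant {U W V : Scheme.{u}} (v : W ⟶ V) [IsClosedImmersion v] [IsAffine V]
    (l : U ⟶ W) (h : Function.Injective (l ≫ v).appTop) : IsIso v := by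
  refine IsClosedImmersion.isIso_of_injective_of_isAffine fun a b e => h ?_
  show (l ≫ v).appTop a = (l ≫ v).appTop b
  rw [Scheme.Hom.comp_appTop, CommRingCat.comp_apply, CommRingCat.comp_apply, e]

variable {𝒯 𝒳 𝒴 : AlgSt.Cat S} {f : 𝒳 ⥤ᵇ 𝒴} {bot : 𝒯 ⥤ᵇ 𝒴}

/-- Lifts agreeing on a schematically dominant open agree, for a separated functor. -/
theorem pull_of_dominant (h𝒳 : IsFibGrpd 𝒳.p) (h𝒴 : IsFibGrpd 𝒴.p) (hrep : RepByAlgSp1 f)
    (hsep : AlgSt.IsSeparatedMor f) {υ τ : 𝒯.obj} (n : υ ⟶ τ) [IsAffine (𝒯.p.obj τ).left]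
    (hn : Function.Injective (𝒯.p.map n).left.appTop) {Q : Pair f bot υ} {P P' : Pair f bot τ}
    (h : Pull n Q P) (h' : Pull n Q P') : Pull (𝟙 τ) P P' := by
  obtain ⟨G, e, he⟩ := hrep _ (chart h𝒴 bot τ)
  let γ := spMapOfOver (BasedFunctor.comp e (fpFst (chart h𝒴 bot τ) f))
  obtain ⟨g, hg⟩ := exists_map h𝒴 he (𝟙 τ) P
  obtain ⟨g', hg'⟩ := exists_map h𝒴 he (𝟙 τ) P'
  have hw : g ≫ γ = g' ≫ γ := (relP_fst h𝒴 hg).trans (relP_fst h𝒴 hg').symm
  have hng : (yon S).map (𝒯.p.map n) ≫ g = (yon S).map (𝒯.p.map n) ≫ g' :=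
    map_unique h𝒳 h𝒴 he (relP_comp h𝒳 h𝒴 hg h) (relP_comp h𝒳 h𝒴 hg' h')
  have hp : AlgSp.IsProperMor (pullback.diagonal γ) :=
    Sep.Rep.prop_diagonal_of_diag Sep.Main.good_proper.bc Sep.Main.good_proper.fs hsep (chart h𝒴 bot τ) e he
  have hY : AlgSp.IsAlgSpace (pullback γ γ) := Lib.AlgSpace.isAlgSpace_of_isPullback
    (IsPullback.of_hasPullback γ γ) (AlgSp.IsAlgSpace.yon_obj _).diag G.property G.property
  have hcl : RepWith @IsClosedImmersion (pullback.diagonal γ) :=
    Lib.AlgSpMor.MonoLft.isClosedImmersion_of_mono G.property hY hp.2.2 hp.2.1.1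
  let ρ := pullback.lift g g' hw
  obtain ⟨W, v, fst, sq, hv⟩ := Lib.AlgSpace.repWith_exists hcl ρ
  haveI : IsClosedImmersion v.left := hv
  have hρ : ((yon S).map (𝒯.p.map n) ≫ g) ≫ pullback.diagonal γ = (yon S).map (𝒯.p.map n) ≫ ρ := by
    apply pullback.hom_ext
    · simp [ρ]
    · simp [ρ, hng]
  obtain ⟨l, hl⟩ := (yon S).map_surjective (sq.lift ((yon S).map (𝒯.p.map n) ≫ g) ((yon S).map (𝒯.p.map n)) hρ)
  have hlv : l ≫ v = 𝒯.p.map n := (yon S).map_injective (by rw [Functor.map_comp, hl, sq.lift_snd])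
  haveI : IsIso v.left := isIso_of_dominant v.left l.left (by rw [← Over.comp_left, hlv]; exact hn)
  haveI : IsIso ((Over.forget S).map v) := ‹IsIso v.left›
  haveI : IsIso v := isIso_of_reflects_iso v (Over.forget S)
  have hgg : g = g' := by
    have e1 : ρ = inv ((yon S).map v) ≫ fst ≫ pullback.diagonal γ := by rw [sq.w, IsIso.inv_hom_id_assoc]
    have a1 := congrArg (· ≫ pullback.fst γ γ) e1
    have a2 := congrArg (· ≫ pullback.snd γ γ) e1
    simp [ρ] at a1 a2
    exact (cancel_epi ((yon S).map v)).1 (a1.trans a2.symm)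
  exact pair_unique h𝒳 h𝒴 hg (hgg ▸ hg')

/-- At most one lift, when the source of the square has a schematically dominant point of an atlas. -/
theorem uniqLift {𝒜 : AlgSt.Cat S} {j : 𝒜 ⥤ᵇ 𝒯} (sq : LiftSq.Sq j f) (h𝒳 : IsFibGrpd 𝒳.p)
    (h𝒴 : IsFibGrpd 𝒴.p) [f.toFunctor.Faithful] (hrep : RepByAlgSp1 f) (hsep : AlgSt.IsSeparatedMor f)
    (η : 𝒯.obj) [IsAffine (𝒯.p.obj η).left]
    (hcov : ∀ τ : 𝒯.obj, ∃ (τ' : 𝒯.obj) (n : τ' ⟶ τ) (_ : τ' ⟶ η), Cover.Fppf (𝒯.p.map n))
    (a : 𝒜.obj) (n₀ : j.obj a ⟶ η) (hn₀ : Function.Injective (𝒯.p.map n₀).left.appTop) : sq.UniqLift := by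
  intro d d'
  let D : sq.Lift → ∀ τ : 𝒯.obj, Pair f sq.bot τ := fun d τ =>
    ⟨d.fn.obj τ, (BasedBasic.appIso d.isoBot τ).hom, BasedBasic.appIso_isHomLift d.isoBot τ⟩
  have hD : ∀ (d : sq.Lift) {τ' τ : 𝒯.obj} (φ : τ' ⟶ τ), Pull φ (D d τ') (D d τ) := fun d {τ' τ} φ =>
    ⟨d.fn.map φ, (have := IsHomLift.map 𝒯.p φ; BasedFunctor.preserves_isHomLift d.fn _ _),
      (d.isoBot.hom.toNatTrans.naturality φ).symm⟩
  let base : Pair f sq.bot (j.obj a) :=
    ⟨sq.top.obj a, (BasedBasic.appIso sq.iso a).hom, by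
      rw [j.w_obj]; exact BasedBasic.appIso_isHomLift sq.iso a⟩
  have hbase : ∀ d : sq.Lift, Pull (𝟙 (j.obj a)) (D d (j.obj a)) base := fun d =>
    ⟨(BasedBasic.appIso d.isoTop a).hom, by
      rw [𝒯.p.map_id, j.w_obj]; exact BasedBasic.appIso_isHomLift d.isoTop a, by
      rw [sq.bot.toFunctor.map_id, Category.id_comp]
      exact congrArg (fun x => x.toNatTrans.app a) d.w⟩
  have hη : Pull (𝟙 η) (D d η) (D d' η) := pull_of_dominant h𝒳 h𝒴 hrep hsep n₀ hn₀
    (pull_left (pull_symm h𝒳 h𝒴 (hbase d)) (hD d n₀))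
    (pull_left (pull_symm h𝒳 h𝒴 (hbase d')) (hD d' n₀))
  have huniq : ∀ τ, Pull (𝟙 τ) (D d τ) (D d' τ) := fun τ => by
    obtain ⟨τ', n, k, hn⟩ := hcov τ
    haveI := locallySurjective hn
    have h1 : Pull (𝟙 τ') (D d τ') (D d' τ') :=
      pull_unique h𝒳 h𝒴 (pull_right (hD d k) hη) (hD d' k)
    exact pull_cancel h𝒳 h𝒴 hrep n (hD d n) (pull_left h1 (hD d' n))
  choose t ht hte using huniq
  have ht' : ∀ τ : 𝒯.obj, 𝒳.p.IsHomLift (𝟙 (𝒯.p.obj τ)) (t τ) := fun τ => by
    have := ht τ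
    rwa [𝒯.p.map_id] at this
  have hte' : ∀ τ, (BasedBasic.appIso d.isoBot τ).hom ≫ f.map (t τ) =
      (BasedBasic.appIso d'.isoBot τ).hom := fun τ => by
    refine (hte τ).trans ?_
    rw [sq.bot.toFunctor.map_id, Category.id_comp]
  let θ : d.fn ⟶ d'.fn :=
    { toNatTrans :=
        { app := t
          naturality := fun a b φ => f.toFunctor.map_injective (by
            rw [f.toFunctor.map_comp, f.toFunctor.map_comp,
              ← cancel_epi (BasedBasic.appIso d.isoBot a).hom, reassoc_of% (hte' a)]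
            rw [← Category.assoc]
            have n1 : sq.bot.map φ ≫ (BasedBasic.appIso d.isoBot b).hom =
                (BasedBasic.appIso d.isoBot a).hom ≫ f.map (d.fn.map φ) :=
              d.isoBot.hom.toNatTrans.naturality φ
            have n2 : sq.bot.map φ ≫ (BasedBasic.appIso d'.isoBot b).hom =
                (BasedBasic.appIso d'.isoBot a).hom ≫ f.map (d'.fn.map φ) :=
              d'.isoBot.hom.toNatTrans.naturality φ
            rw [← n1, Category.assoc, hte', n2]) }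
      isHomLift' := fun τ => ht' τ }
  refine ⟨⟨⟨⟨θ, ?_, ?_⟩⟩, fun φ => ?_⟩⟩
  · apply BasedNatTrans.homCategory.ext
    ext v
    apply f.toFunctor.map_injective
    change f.map (t (j.obj v) ≫ (BasedBasic.appIso d'.isoTop v).hom) = f.map (BasedBasic.appIso d.isoTop v).hom
    have e : (BasedBasic.appIso d.isoBot (j.obj v)).hom ≫ f.map (BasedBasic.appIso d.isoTop v).hom =
        (BasedBasic.appIso sq.iso v).hom := congrArg (fun x => x.toNatTrans.app v) d.w
    have e' : (BasedBasic.appIso d'.isoBot (j.obj v)).hom ≫ f.map (BasedBasic.appIso d'.isoTop v).hom =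
        (BasedBasic.appIso sq.iso v).hom := congrArg (fun x => x.toNatTrans.app v) d'.w
    rw [← cancel_epi (BasedBasic.appIso d.isoBot (j.obj v)).hom, f.toFunctor.map_comp,
      reassoc_of% (hte' (j.obj v)), e, e']
  · apply BasedNatTrans.homCategory.ext
    ext τ
    exact hte' τ
  · apply LiftSq.Sq.Lift.hom_ext
    apply BasedNatTrans.homCategory.ext
    ext τ
    apply f.toFunctor.map_injective
    rw [← cancel_epi (BasedBasic.appIso d.isoBot τ).hom]
    exact (congrArg (fun x => x.toNatTrans.app τ) φ.w_bot).trans (hte' τ).symm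

end Groth.Agent.H14.Extend
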